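import Cfsg.Agent.Lib.CosetEnum.HNP.Cover

/-!
Classes of cosets: for each node, orbits of its stabiliser on the blocks; the checks that make the
image of a class under the powers of `t` independent of the representative.
-/

set_option autoImplicit false

namespace Cfsg.Agent.Lib.CosetEnum.HNP

open Cfsg.Agent.Lib.CosetEnum Cfsg.Agent.Lib.ExactCover

/-- A class: representative word, its block, targets of the five powers of `t`, the equations for them,
generators of its stabiliser and for each of them and each exponent a membership witness. -/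
structure NClass where
  w : List ℕ
  bm : ℕ
  tgt : List (ℕ × List ℕ)
  fact : List ℕ
  cgens : List (List ℕ)
  good : List (List (List (ℕ × Bool)))

/-- The class and the correcting word of a block. -/
abbrev Label := ℕ × List ℕ

/-- How a block is reached from an earlier one of its class: generators and a word in `x, y`. -/
abbrev Link := Option (ℕ × List (ℕ × Bool) × List ℕ)

/-- Image of a block under a generator: block, word, and the stabiliser element as a product. -/
abbrev Schreier := ℕ × List ℕ × List (ℕ × Bool)

/-- The data of a node. -/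
structure NodeData where
  gens : List (List ℕ)
  gfact : List ℕ
  classes : List NClass
  label : List Label
  order : List (ℕ × Link)
  schr : List (List Schreier)

/-- The node with the given number. -/
def nodeAt (nds : List NodeData) (i : ℕ) : NodeData := nds.getD i ⟨[], [], [], [], [], []⟩

/-- A class of a node. -/
def NodeData.cls (nd : NodeData) (m : ℕ) : NClass := nd.classes.getD m ⟨[], 0, [], [], [], []⟩

/-- The label of a block. -/
def NodeData.lab (nd : NodeData) (b : ℕ) : Label := nd.label.getD b (0, [])

/-- The target of a power of `t`. -/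
def NClass.target (c : NClass) (e : ℕ) : ℕ × List ℕ := c.tgt.getD e (0, [])

/-- The target of an exponent read modulo 5. -/
def NClass.tg (c : NClass) (e : ℕ) : ℕ × List ℕ := c.target (e % 5)

variable (B : BlockData) (nds : List NodeData) (facts : List DFact)

/-- The generators of a node come from equations fixing it. -/
noncomputable def checkGens (i : ℕ) : Bool :=
  (List.range (nodeAt nds i).gens.length).all fun j =>
    okWord ((nodeAt nds i).gens.getD j []) &&
    match facts[(nodeAt nds i).gfact.getD j 0]? with
    | none => false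
    | some f => Nat.beq f.i i && Nat.beq f.j i && Nat.beq f.a 0 && okWord f.v &&
        wordEq ((nodeAt nds i).gens.getD j []) (f.w ++ invWord f.v)

/-- The targets of a class come from equations. -/
noncomputable def checkClass (i m : ℕ) : Bool :=
  let c := (nodeAt nds i).cls m
  okWord c.w && Nat.blt c.bm 352 && Nat.beq ((nodeAt nds i).lab c.bm).1 m &&
  wordEq (B.rep c.bm) (c.w ++ ((nodeAt nds i).lab c.bm).2) &&
  decide (c.target 0 = (i, c.w)) &&
  ((List.range 5).all fun e => Nat.blt (c.target e).1 nds.length && okWord (c.target e).2 &&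
    (Nat.beq e 0 ||
      match facts[c.fact.getD e 0]? with
      | none => false
      | some f => Nat.beq f.i i && wordEq f.w c.w && Nat.beq f.a e &&
          Nat.beq f.j (c.target e).1 && wordEq f.v (c.target e).2)) &&
  (c.cgens.all fun k => kWord k) &&
  ((List.range c.cgens.length).all fun j =>
    let k := c.cgens.getD j []
    (List.range 5).all fun e =>
      let q := c.tg (e * chiWord k)
      Nat.beq q.1 (c.target e).1 &&
        wordEq (genWord (nodeAt nds q.1).gens ((c.good.getD j []).getD e []))
          ((c.target e).2 ++ k ++ invWord q.2))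

/-- One link in the order of blocks. -/
noncomputable def checkLink (i : ℕ) (seen : List ℕ) (b : ℕ) : Link → Bool
  | none => Nat.beq ((nodeAt nds i).cls ((nodeAt nds i).lab b).1).bm b
  | some (b0, s, k) => decide (b0 ∈ seen) && Nat.blt b0 352 && kWord k &&
      Nat.beq ((nodeAt nds i).lab b0).1 ((nodeAt nds i).lab b).1 &&
      wordEq (B.rep b) (genWord (nodeAt nds i).gens s ++ B.rep b0 ++ k) &&
      wordEq ((nodeAt nds i).lab b).2 (((nodeAt nds i).lab b0).2 ++ k)

/-- Check the blocks in their order. -/
noncomputable def checkOrder (i : ℕ) : List (ℕ × Link) → List ℕ → Bool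
  | [], seen => (List.range 352).all fun b => decide (b ∈ seen)
  | p :: ps, seen => checkLink B nds i seen p.1 p.2 && checkOrder i ps (p.1 :: seen)

/-- Check the labels and the images of blocks under the generators. -/
noncomputable def checkBlock (i b : ℕ) : Bool :=
  let nd := nodeAt nds i
  Nat.blt (nd.lab b).1 nd.classes.length && kWord (nd.lab b).2 &&
  ((List.range nd.gens.length).all fun j =>
    let q := (nd.schr.getD b []).getD j (0, [], [])
    Nat.blt q.1 352 && kWord q.2.1 && Nat.beq (nd.lab q.1).1 (nd.lab b).1 &&
    wordEq (nd.gens.getD j [] ++ B.rep b) (B.rep q.1 ++ q.2.1) &&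
    wordEq ((nd.lab q.1).2 ++ q.2.1) (genWord (nd.cls (nd.lab b).1).cgens q.2.2 ++ (nd.lab b).2))

/-- All the checks of one node. -/
structure NodeOK (i : ℕ) : Prop where
  gens : checkGens nds facts i = true
  cls : ∀ m < (nodeAt nds i).classes.length, checkClass B nds facts i m = true
  order : checkOrder B nds i (nodeAt nds i).order [] = true
  block : ∀ b < 352, checkBlock B nds i b = true

variable {B nds facts}

/-- The stabiliser proved for a node. -/
noncomputable abbrev stab (nds : List NodeData) (i : ℕ) : Subgroup (PresentedGroup pres) :=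
  genGroup (nodeAt nds i).gens

/-! ### Points on the fibre and the blocks of elements -/

section
variable (hB : B.check = true)
include hB

theorem fibre_walk : ∀ k : List ℕ, (∀ g ∈ k, g < 4) → ∀ f ∈ B.fibre,
    (scan 6 table k f.1, f.2 * chiWord k % 5) ∈ B.fibre := by
  obtain ⟨-, -, -, -, hf⟩ := block_facts hB
  intro k
  induction k with
  | nil =>
    intro _ f hfm
    have := (hf f hfm).2.1
    simpa [scan, chiWord, Nat.mod_eq_of_lt this] using hfm
  | cons g k ih =>
    intro hk f hfm
    have h1 := (hf f hfm).2.2 g (hk g List.mem_cons_self)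
    have h2 := ih (fun x hx => hk x (List.mem_cons_of_mem _ hx)) _ h1
    have hs : scan 6 table (g :: k) f.1 = scan 6 table k (scan 6 table [g] f.1) := by
      simp [scan]
    rw [hs]
    convert h2 using 2
    rw [show chiWord (g :: k) = chiWord k * chiLetter g % 5 from rfl, Nat.mul_mod, Nat.mod_mod,
      ← Nat.mul_mod, Nat.mod_mul_mod]
    congr 1; ring

theorem chiWord_congr {k k' : List ℕ} (hk : kWord k = true) (hk' : kWord k' = true)
    (h : val k = val k') : chiWord k = chiWord k' := by
  obtain ⟨-, -, h0, hnd, -⟩ := block_facts hB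
  have h1 := fibre_walk hB k (kWord_iff.1 hk) _ h0
  have h2 := fibre_walk hB k' (kWord_iff.1 hk') _ h0
  have hs : scan 6 table k 0 = scan 6 table k' 0 := by
    have a1 := act_word k (okWord_iff.1 (kWord_okWord hk)) ⟨0, by omega⟩
    have a2 := act_word k' (okWord_iff.1 (kWord_okWord hk')) ⟨0, by omega⟩
    rw [← a1, ← a2, h]
  simp only [one_mul, chiWord_mod] at h1 h2
  rw [← hs] at h2
  have := List.inj_on_of_nodup_map hnd h1 h2 rfl
  exact congrArg Prod.snd this

theorem blk_eq {b : ℕ} (hb : b < 352) {k : List ℕ} (hk : kWord k = true) :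
    get32 B.blk (act (val (B.rep b) * val k) ⟨0, by omega⟩).1 = b := by
  obtain ⟨h1, -, h0, -, hf⟩ := block_facts hB
  obtain ⟨hok, -, hblk⟩ := h1 b hb
  have hp := kWord_invWord hk
  have h2 := fibre_walk hB _ (kWord_iff.1 hp) _ h0
  have e1 : (act (val k) (⟨0, by omega⟩ : Fin 1408)).1 = scan 6 table (invWord k) 0 := by
    have := act_word _ (okWord_iff.1 (kWord_okWord hp)) (⟨0, by omega⟩ : Fin 1408)
    rw [val_invWord _ (kWord_okWord hk), map_inv, inv_inv] at this
    exact this
  have e2 : ∀ q : Fin 1408, (act (val (B.rep b)) q).1 = scan 6 table (invWord (B.rep b)) q.1 := by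
    intro q
    have := act_word _ (okWord_iff.1 (okWord_invWord hok)) q
    rw [val_invWord _ hok, map_inv, inv_inv] at this
    exact this
  rw [map_mul, Equiv.Perm.mul_apply, e2, e1]
  exact hblk _ h2

theorem block_unique {b b' : ℕ} (hb : b < 352) (hb' : b' < 352) {k k' : List ℕ}
    (hk : kWord k = true) (hk' : kWord k' = true)
    (h : val (B.rep b) * val k = val (B.rep b') * val k') : b = b' := by
  rw [← blk_eq hB hb hk, h, blk_eq hB hb' hk']

end

/-! ### Decompositions -/

variable {i : ℕ} (hN : NodeOK B nds facts i)
include hN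

theorem gens_ok : ∀ s ∈ (nodeAt nds i).gens, okWord s = true := by
  intro s hs
  obtain ⟨j, hj, rfl⟩ := List.mem_iff_getElem.1 hs
  have := hN.gens
  simp only [checkGens, List.all_eq_true, List.mem_range, Bool.and_eq_true] at this
  have h := (this j hj).1
  rwa [List.getD_eq_getElem _ _ hj] at h

theorem lab_ok {b : ℕ} (hb : b < 352) :
    ((nodeAt nds i).lab b).1 < (nodeAt nds i).classes.length ∧
      kWord ((nodeAt nds i).lab b).2 = true := by
  have := hN.block b hb
  simp only [checkBlock, Bool.and_eq_true, Nat.blt_eq] at this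
  exact this.1

theorem class_root {m : ℕ} (hm : m < (nodeAt nds i).classes.length) :
    let c := (nodeAt nds i).cls m
    okWord c.w = true ∧ c.bm < 352 ∧ ((nodeAt nds i).lab c.bm).1 = m ∧
      val (B.rep c.bm) = val c.w * val ((nodeAt nds i).lab c.bm).2 := by
  have := hN.cls m hm
  simp only [checkClass, Bool.and_eq_true, Nat.blt_eq, Nat.beq_eq] at this
  obtain ⟨⟨⟨⟨⟨⟨⟨h1, h2⟩, h3⟩, h4⟩, -⟩, -⟩, -⟩, -⟩ := this
  exact ⟨h1, h2, h3, by rw [val_eq_of_wordEq h4, val_append]⟩

/-- Every block representative splits along its class. -/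
theorem decomp {b : ℕ} (hb : b < 352) :
    ∃ σ ∈ stab nds i, val (B.rep b) =
      σ * val ((nodeAt nds i).cls ((nodeAt nds i).lab b).1).w * val ((nodeAt nds i).lab b).2 := by
  set nd := nodeAt nds i with hnd
  let D : ℕ → Prop := fun b => ∃ σ ∈ stab nds i,
    val (B.rep b) = σ * val (nd.cls (nd.lab b).1).w * val (nd.lab b).2
  suffices ∀ (l : List (ℕ × Link)) (seen : List ℕ), checkOrder B nds i l seen = true →
      (∀ x ∈ seen, x < 352 → D x) → ∀ x < 352, D x from this _ [] hN.order (by simp) b hb
  intro l
  induction l with
  | nil =>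
    intro seen h hs x hx
    simp only [checkOrder, List.all_eq_true, List.mem_range, decide_eq_true_eq] at h
    exact hs x (h x hx) hx
  | cons p ps ih =>
    intro seen h hs
    simp only [checkOrder, Bool.and_eq_true] at h
    refine ih (p.1 :: seen) h.2 fun x hx hx2 => ?_
    rcases List.mem_cons.1 hx with rfl | hx
    swap
    · exact hs x hx hx2
    obtain ⟨b, lk⟩ := p
    cases lk with
    | none =>
      have h1 := h.1
      simp only [checkLink, Nat.beq_eq] at h1
      have h4 := (class_root hN (lab_ok hN hx2).1).2.2.2
      simp only [h1] at h4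
      exact ⟨1, one_mem _, by rw [one_mul]; exact h4⟩
    | some q =>
      obtain ⟨b0, s, k⟩ := q
      have h1 := h.1
      simp only [checkLink, Bool.and_eq_true, decide_eq_true_eq, Nat.beq_eq] at h1
      simp only [Nat.blt_eq] at h1
      obtain ⟨⟨⟨⟨⟨hseen, hb0⟩, hk⟩, hl⟩, he⟩, hK⟩ := h1
      obtain ⟨σ, hσ, hd⟩ := hs b0 hseen hb0
      obtain ⟨-, hmem⟩ := genWord_spec (gens_ok hN) s
      refine ⟨val (genWord nd.gens s) * σ, mul_mem hmem hσ, ?_⟩
      rw [val_eq_of_wordEq he, val_append, val_append, hd, hnd, hl, val_eq_of_wordEq hK, val_append]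
      simp only [mul_assoc]

omit hN

end Cfsg.Agent.Lib.CosetEnum.HNP
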