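import Cfsg.Agent.Lib.CosetEnum.HNP.Dce
import Cfsg.Agent.Lib.ExactCover.Std

/-!
The cosets found by the double coset enumeration over `P`: every element of `P` splits along the classes
of each node, classes have well defined images under the powers of `t`, and this gives both the upper
bound on the index and an action of the whole group.
-/

set_option autoImplicit false

namespace Cfsg.Agent.Lib.CosetEnum.HNP

open Cfsg.Agent.Lib.CosetEnum Cfsg.Agent.Lib.ExactCover

/-! ### Words -/

theorem val_append (u v : List ℕ) : val (u ++ v) = val u * val v := by simp [val]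

theorem val_nil : val [] = 1 := by simp [val]

theorem okWord_iff {u : List ℕ} : okWord u = true ↔ ∀ g ∈ u, g < 6 := by
  simp [okWord, List.all_eq_true, Nat.blt_eq]

theorem val_eq_of_wordEq {u v : List ℕ} (h : wordEq u v = true) : val u = val v := by
  simp only [wordEq, Bool.and_eq_true, List.all_eq_true, Nat.beq_eq] at h
  exact val_eq_of_base u v (okWord_iff.1 h.1.1) (okWord_iff.1 h.1.2) h.2

theorem okWord_of_wordEq {u v : List ℕ} (h : wordEq u v = true) :
    okWord u = true ∧ okWord v = true := by
  simp only [wordEq, Bool.and_eq_true] at h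
  exact h.1

theorem flip_lt {g : ℕ} (hg : g < 6) : ExactCover.flip g < 6 := by unfold ExactCover.flip; split <;> omega

theorem val_flip {g : ℕ} (hg : g < 6) : val [ExactCover.flip g] = (val [g])⁻¹ := by
  have h : ∀ g < 6, wordEq ([ExactCover.flip g] ++ [g]) [] = true := by decide +kernel
  have := val_eq_of_wordEq (h g hg)
  rw [val_append, val_nil] at this
  exact eq_inv_of_mul_eq_one_left this

theorem val_invWord : ∀ u : List ℕ, okWord u = true → val (invWord u) = (val u)⁻¹ := by
  intro u
  induction u with
  | nil => intro _; simp [invWord, val]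
  | cons g u ih =>
    intro h
    simp only [okWord, List.all_cons, Bool.and_eq_true, Nat.blt_eq] at h
    rw [invWord, List.map_cons, List.reverse_cons, val_append, ← invWord, ih h.2, val_flip h.1,
      show g :: u = [g] ++ u from rfl, val_append, mul_inv_rev]

theorem okWord_invWord {u : List ℕ} (h : okWord u = true) : okWord (invWord u) = true := by
  rw [okWord_iff] at h ⊢
  intro g hg
  simp only [invWord, List.mem_reverse, List.mem_map] at hg
  obtain ⟨a, ha, rfl⟩ := hg
  exact flip_lt (h a ha)

theorem okWord_append {u v : List ℕ} (hu : okWord u = true) (hv : okWord v = true) :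
    okWord (u ++ v) = true := by
  simp only [okWord, List.all_append, Bool.and_eq_true] at *
  exact ⟨hu, hv⟩

/-- A product of listed generators and inverses. -/
def genWord (gens : List (List ℕ)) (l : List (ℕ × Bool)) : List ℕ :=
  (l.map fun p => bif p.2 then invWord (gens.getD p.1 []) else gens.getD p.1 []).flatten

/-- The subgroup generated by listed words. -/
noncomputable def genGroup (gens : List (List ℕ)) : Subgroup (PresentedGroup pres) :=
  Subgroup.closure {x | ∃ s ∈ gens, val s = x}

theorem genWord_spec {gens : List (List ℕ)} (hg : ∀ s ∈ gens, okWord s = true) :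
    ∀ l : List (ℕ × Bool), okWord (genWord gens l) = true ∧ val (genWord gens l) ∈ genGroup gens := by
  intro l
  induction l with
  | nil => exact ⟨rfl, by simp [genWord, val]⟩
  | cons p l ih =>
    have hp : okWord (gens.getD p.1 []) = true ∧ val (gens.getD p.1 []) ∈ genGroup gens := by
      rcases lt_or_ge p.1 gens.length with h | h
      · rw [List.getD_eq_getElem _ _ h]
        exact ⟨hg _ (List.getElem_mem h), Subgroup.subset_closure ⟨_, List.getElem_mem h, rfl⟩⟩
      · rw [List.getD_eq_default _ _ h]
        exact ⟨rfl, by simp [val]⟩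
    have e : genWord gens (p :: l) =
        (bif p.2 then invWord (gens.getD p.1 []) else gens.getD p.1 []) ++ genWord gens l := by
      simp [genWord]
    rw [e, val_append]
    cases p.2
    · exact ⟨okWord_append hp.1 ih.1, mul_mem hp.2 ih.2⟩
    · exact ⟨okWord_append (okWord_invWord hp.1) ih.1, mul_mem (by rw [cond_true, val_invWord _ hp.1]; exact inv_mem hp.2) ih.2⟩

/-- In a finite group, a property closed under products and holding for generators holds on the
subgroup they generate. -/
theorem closure_induction_mul {G : Type*} [Group G] [Finite G] {s : Set G} {p : G → Prop}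
    (hs : ∀ x ∈ s, p x) (h1 : p 1) (hm : ∀ a b, p a → p b → p (a * b)) {x : G}
    (hx : x ∈ Subgroup.closure s) : p x := by
  induction hx using Subgroup.closure_induction with
  | mem x hx => exact hs x hx
  | one => exact h1
  | mul a b _ _ ha hb => exact hm a b ha hb
  | inv a _ ha =>
    have hpow : ∀ n : ℕ, p (a ^ n) := by
      intro n
      induction n with
      | zero => simpa using h1
      | succ n ih => rw [pow_succ]; exact hm _ _ ih ha
    have he : a⁻¹ = a ^ (orderOf a - 1) := by
      refine inv_eq_of_mul_eq_one_right ?_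
      rw [← pow_succ', Nat.sub_add_cancel (orderOf_pos a), pow_orderOf_eq_one]
    rw [he]; exact hpow _

/-! ### The subgroup `K` on `x, y` and the blocks -/

/-- A word in `x, y`. -/
def kWord (k : List ℕ) : Bool := (k.all fun g => Nat.blt g 4) && !Nat.beq (chiWord k) 0

theorem kWord_okWord {k : List ℕ} (h : kWord k = true) : okWord k = true := by
  simp only [kWord, Bool.and_eq_true, List.all_eq_true, Nat.blt_eq] at h
  exact okWord_iff.2 fun g hg => by have := h.1 g hg; omega

theorem chiLetter_ne {g : ℕ} (hg : g < 4) : chiLetter g % 5 ≠ 0 ∧ chiLetter g < 5 := by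
  interval_cases g <;> decide

theorem chiWord_lt (k : List ℕ) : chiWord k < 5 := by
  cases k with
  | nil => decide
  | cons g k => exact Nat.mod_lt _ (by omega)

theorem chiWord_ne {k : List ℕ} (h : ∀ g ∈ k, g < 4) : chiWord k ≠ 0 := by
  induction k with
  | nil => decide
  | cons g k ih =>
    have h1 := ih fun x hx => h x (List.mem_cons_of_mem _ hx)
    have h2 := chiWord_lt k
    obtain ⟨h3, h4⟩ := chiLetter_ne (h g List.mem_cons_self)
    rw [show chiWord (g :: k) = chiWord k * chiLetter g % 5 from rfl]
    generalize chiWord k = a at h1 h2 ⊢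
    generalize chiLetter g = b at h3 h4 ⊢
    interval_cases a <;> interval_cases b <;> simp_all

theorem kWord_iff {k : List ℕ} : kWord k = true ↔ ∀ g ∈ k, g < 4 := by
  constructor
  · intro h
    simp only [kWord, Bool.and_eq_true, List.all_eq_true, Nat.blt_eq] at h
    exact h.1
  · intro h
    simp only [kWord, Bool.and_eq_true, List.all_eq_true, Nat.blt_eq, Bool.not_eq_true',
      ← Bool.not_eq_true, Nat.beq_eq]
    exact ⟨h, chiWord_ne h⟩

theorem kWord_append {u v : List ℕ} (hu : kWord u = true) (hv : kWord v = true) :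
    kWord (u ++ v) = true := by
  rw [kWord_iff] at *
  intro g hg
  rcases List.mem_append.1 hg with h | h
  · exact hu g h
  · exact hv g h

theorem kWord_invWord {u : List ℕ} (hu : kWord u = true) : kWord (invWord u) = true := by
  rw [kWord_iff] at *
  intro g hg
  simp only [invWord, List.mem_reverse, List.mem_map] at hg
  obtain ⟨a, ha, rfl⟩ := hg
  have := hu a ha
  unfold ExactCover.flip; split <;> omega

theorem chiWord_append (u v : List ℕ) : chiWord (u ++ v) % 5 = chiWord u * chiWord v % 5 := by
  induction u with
  | nil => simp [chiWord]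
  | cons g u ih =>
    rw [List.cons_append, show chiWord (g :: (u ++ v)) = chiWord (u ++ v) * chiLetter g % 5 from rfl,
      show chiWord (g :: u) = chiWord u * chiLetter g % 5 from rfl, Nat.mod_mod, Nat.mul_mod, ih,
      ← Nat.mul_mod, Nat.mod_mul_mod]
    congr 1; ring

theorem chiWord_mod (k : List ℕ) : chiWord k % 5 = chiWord k := Nat.mod_eq_of_lt (chiWord_lt k)

/-- Data of the blocks: representatives, their closure and the block of each point; `fibre` is
the set of points over block `0` with the exponents they carry. -/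
structure BlockData where
  R : List (List ℕ)
  close : List (List (ℕ × List ℕ))
  blk : PTree
  fibre : List (ℕ × ℕ)

variable (B : BlockData)

/-- A representative. -/
def BlockData.rep (b : ℕ) : List ℕ := B.R.getD b []

/-- Check the block data. -/
noncomputable def BlockData.check : Bool :=
  ((List.range 352).all fun b => okWord (B.rep b) &&
    ((List.range 6).all fun g =>
      let e := (B.close.getD b []).getD g (0, [])
      Nat.blt e.1 352 && kWord e.2 && wordEq ([g] ++ B.rep b) (B.rep e.1 ++ e.2)) &&
    (B.fibre.all fun f => Nat.beq (get32 B.blk (scan 6 table (invWord (B.rep b)) f.1)) b)) &&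
  wordEq (B.rep 0) [] && decide ((0, 1) ∈ B.fibre) && decide ((B.fibre.map Prod.fst).Nodup) &&
  (B.fibre.all fun f => Nat.blt f.1 1408 && Nat.blt f.2 5 &&
    ((List.range 4).all fun g => decide ((scan 6 table [g] f.1, f.2 * chiLetter g % 5) ∈ B.fibre)))

variable {B} (hB : B.check = true)
include hB

theorem block_facts :
    (∀ b < 352, okWord (B.rep b) = true ∧
      (∀ g < 6, ∃ b' < 352, ∃ k, kWord k = true ∧ val [g] * val (B.rep b) = val (B.rep b') * val k) ∧
      ∀ f ∈ B.fibre, get32 B.blk (scan 6 table (invWord (B.rep b)) f.1) = b) ∧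
    val (B.rep 0) = 1 ∧ (0, 1) ∈ B.fibre ∧ (B.fibre.map Prod.fst).Nodup ∧
    ∀ f ∈ B.fibre, f.1 < 1408 ∧ f.2 < 5 ∧
      ∀ g < 4, (scan 6 table [g] f.1, f.2 * chiLetter g % 5) ∈ B.fibre := by
  simp only [BlockData.check, Bool.and_eq_true, List.all_eq_true, List.mem_range, Nat.blt_eq,
    Nat.beq_eq, decide_eq_true_eq] at hB
  obtain ⟨⟨⟨⟨h1, h2⟩, h3⟩, h4⟩, h5⟩ := hB
  refine ⟨fun b hb => ⟨(h1 b hb).1.1, fun g hg => ?_, (h1 b hb).2⟩, by
    rw [val_eq_of_wordEq h2, val_nil], h3, h4, fun f hf => ⟨(h5 f hf).1.1, (h5 f hf).1.2, (h5 f hf).2⟩⟩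
  obtain ⟨⟨hb', hk⟩, he⟩ := (h1 b hb).1.2 g hg
  exact ⟨_, hb', _, hk, by rw [← val_append, ← val_append]; exact val_eq_of_wordEq he⟩

theorem exists_block (p : PresentedGroup pres) :
    ∃ b < 352, ∃ k, kWord k = true ∧ p = val (B.rep b) * val k := by
  obtain ⟨h1, h0, -⟩ := block_facts hB
  have hp : p ∈ Subgroup.closure {x | ∃ g < letters.K, letters.phi pres g = x} := by
    rw [Letters.gen_closure letters_col]; trivial
  induction hp using Subgroup.closure_induction_left with
  | one => exact ⟨0, by omega, [], by decide, by rw [h0, val_nil, one_mul]⟩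
  | mul_left a ha q _ ih =>
    obtain ⟨g, hg, rfl⟩ := ha
    obtain ⟨b, hb, k, hk, rfl⟩ := ih
    obtain ⟨b', hb', k', hk', he⟩ := (h1 b hb).2.1 g hg
    refine ⟨b', hb', k' ++ k, kWord_append hk' hk, ?_⟩
    rw [show letters.phi pres g = val [g] by simp [val], ← mul_assoc, he, val_append, mul_assoc]
  | inv_mul_cancel a ha q _ ih =>
    obtain ⟨g, hg, rfl⟩ := ha
    obtain ⟨b, hb, k, hk, rfl⟩ := ih
    obtain ⟨b', hb', k', hk', he⟩ := (h1 b hb).2.1 (ExactCover.flip g) (flip_lt hg)
    refine ⟨b', hb', k' ++ k, kWord_append hk' hk, ?_⟩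
    rw [show (letters.phi pres g)⁻¹ = val [ExactCover.flip g] by rw [val_flip hg]; simp [val], ← mul_assoc, he,
      val_append, mul_assoc]

omit hB

end Cfsg.Agent.Lib.CosetEnum.HNP
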