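import Cfsg.Agent.Lib.CosetEnum.HNP.Order

/-!
Double coset enumeration over the group `P` of order 177408000: checked derivations of equations
`H g w t^a = H g' v`, where `t` has order dividing 5, is normalised by `x, y` and satisfies `(z t)³ = 1`.
-/

set_option autoImplicit false

namespace Cfsg.Agent.Lib.CosetEnum.HNP

open Cfsg.Agent.Lib.CosetEnum

/-- An equation `H g_i w t^a = H g_j v`. -/
structure DFact where
  i : ℕ
  w : List ℕ
  a : ℕ
  j : ℕ
  v : List ℕ

/-- A move of a coset: by an equation (possibly backwards) translated by a word, or by `z`. -/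
inductive Move where
  | use (f : ℕ) (rev : Bool) (k : List ℕ)
  | z

/-- Why an equation holds. -/
inductive Deriv where
  | base
  | tree
  | walk (ms : List Move)

/-- All letters are letters of `P`. -/
def okWord (u : List ℕ) : Bool := u.all fun g => Nat.blt g 6

/-- The words are valid and agree on the five base points, so are equal in `P`. -/
noncomputable def wordEq (u v : List ℕ) : Bool :=
  okWord u && okWord v &&
    ([0, 3, 7, 8, 16].all fun b => Nat.beq (scan 6 table u b) (scan 6 table v b))

/-- The exponent by which a letter acts on `t` (`0`: not a letter of `⟨x, y⟩`). -/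
def chiLetter (g : ℕ) : ℕ := [3, 2, 1, 1].getD g 0

/-- The exponent by which a word acts on `t`. -/
def chiWord (k : List ℕ) : ℕ := k.foldr (fun g e => e * chiLetter g % 5) 1

/-- The equation used forwards or backwards: source, exponent, target. -/
def orient (f : DFact) (rev : Bool) : ℕ × List ℕ × ℕ × ℕ × List ℕ :=
  bif rev then (f.j, f.v, (5 - f.a) % 5, f.i, f.w) else (f.i, f.w, f.a, f.j, f.v)

/-- Add an exponent to the symbols. -/
def addExp (e : ℕ) : List ℕ → List ℕ
  | [] => [e % 5]
  | a :: r => (a + e) % 5 :: r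

/-- Run moves. The state is a coset `(i, u)` and the powers of `t` met so far, separated by `z`. -/
noncomputable def runMoves (acc : List DFact) : List Move → ℕ → List ℕ → List ℕ →
    Option (ℕ × List ℕ × List ℕ)
  | [], i, u, s => some (i, u, s)
  | .z :: ms, i, u, s => runMoves acc ms i (u ++ [4]) (0 :: s)
  | .use f rev k :: ms, i, u, s =>
    match acc[f]? with
    | none => none
    | some x =>
      let o := orient x rev
      bif Nat.beq o.1 i && wordEq (o.2.1 ++ k) u && okWord k &&
          (Nat.beq o.2.2.1 0 || !Nat.beq (chiWord k) 0) then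
        runMoves acc ms o.2.2.2.1 (o.2.2.2.2 ++ k)
          (bif Nat.beq o.2.2.1 0 then s else addExp (o.2.2.1 * chiWord k) s)
      else none

/-- The value of the powers of `t` met in a walk. -/
def patVal : List ℕ → Option ℕ
  | [a] => some a
  | [1, 1, 1, 0] => some 0
  | [0, 1, 1, 1] => some 0
  | [4, 4, 4, 0] => some 0
  | [0, 4, 4, 4] => some 0
  | [0, 1, 1, 0] => some 4
  | [0, 4, 4, 0] => some 1
  | _ => none

/-- Check one derivation. -/
noncomputable def checkFact (nodes : List DFact) (acc : List DFact) (f : DFact) : Deriv → Bool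
  | .base => Nat.beq f.i 0 && Nat.beq f.j 0 && Nat.beq f.a 0
  | .tree =>
    match nodes[f.j - 1]? with
    | none => false
    | some x => Nat.blt 0 f.j && Nat.beq x.i f.i && decide (x.w = f.w) && Nat.beq x.a f.a &&
        decide (f.v = [])
  | .walk ms =>
    match runMoves acc ms f.i f.w [0] with
    | none => false
    | some (j, u, s) => Nat.beq j f.j && wordEq u f.v && decide (patVal s = some f.a)

/-- Check a list of derived equations, each from the earlier ones. -/
noncomputable def checkAll (nodes : List DFact) : List (DFact × Deriv) → List DFact → Bool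
  | [], _ => true
  | p :: ps, acc => okWord p.1.w && okWord p.1.v && Nat.blt p.1.a 5 && checkFact nodes acc p.1 p.2 &&
      checkAll nodes ps (acc ++ [p.1])

/-- The hypotheses: an image of `P` and an element `t`. -/
structure Setting (G : Type*) [Group G] where
  π : PresentedGroup pres →* G
  t : G
  t5 : t ^ 5 = 1
  xt : (π (val [0]))⁻¹ * t * π (val [0]) = t ^ 3
  yt : (π (val [2]))⁻¹ * t * π (val [2]) = t
  zt : (π (val [4]) * t) ^ 3 = 1

namespace Setting

variable {G : Type*} [Group G] (S : Setting G)

/-- The value of a word in `G`. -/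
noncomputable def el (u : List ℕ) : G := S.π (val u)

theorem el_append (u v : List ℕ) : S.el (u ++ v) = S.el u * S.el v := by
  simp [el, val, map_mul]

theorem el_nil : S.el [] = 1 := by simp [el, val]

theorem el_eq {u v : List ℕ} (h : wordEq u v = true) : S.el u = S.el v := by
  simp only [wordEq, okWord, Bool.and_eq_true, List.all_eq_true, Nat.blt_eq, Nat.beq_eq] at h
  exact congrArg S.π (val_eq_of_base u v h.1.1 h.1.2 h.2)

theorem el_zz : S.el [4] * S.el [4] = 1 := by
  rw [← el_append, ← el_nil S]
  exact S.el_eq (by decide +kernel)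

theorem tpow_mod (n : ℕ) : S.t ^ (n % 5) = S.t ^ n := by
  conv_rhs => rw [← Nat.mod_add_div n 5, pow_add, pow_mul, S.t5, one_pow, mul_one]

theorem conj_letter (g : ℕ) (hg : chiLetter g ≠ 0) :
    (S.el [g])⁻¹ * S.t * S.el [g] = S.t ^ chiLetter g := by
  have hg4 : g < 4 := by
    by_contra h
    exact hg (List.getD_eq_default _ _ (by simp; omega))
  have h01 : S.el [1] = (S.el [0])⁻¹ := eq_inv_of_mul_eq_one_right (by
    rw [← el_append, ← el_nil S]; exact S.el_eq (by decide +kernel))
  have h23 : S.el [3] = (S.el [2])⁻¹ := eq_inv_of_mul_eq_one_right (by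
    rw [← el_append, ← el_nil S]; exact S.el_eq (by decide +kernel))
  have hx : (S.el [0])⁻¹ * S.t * S.el [0] = S.t ^ 3 := S.xt
  have hy : (S.el [2])⁻¹ * S.t * S.el [2] = S.t := S.yt
  interval_cases g
  · exact hx
  · rw [h01, inv_inv]
    have h9 : (S.el [0])⁻¹ * S.t ^ 2 * S.el [0] = S.t := by
      rw [sq, show (S.el [0])⁻¹ * (S.t * S.t) * S.el [0] =
        ((S.el [0])⁻¹ * S.t * S.el [0]) * ((S.el [0])⁻¹ * S.t * S.el [0]) by group, hx,
        ← pow_add, ← tpow_mod]
      simp
    conv_lhs => rw [← h9]
    simp [chiLetter, mul_assoc]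
  · simpa [chiLetter] using hy
  · rw [h23, inv_inv]
    conv_lhs => rw [← hy]
    simp [chiLetter, mul_assoc]

/-- Moving a word of `⟨x, y⟩` past a power of `t`. -/
theorem conj_word : ∀ (k : List ℕ), chiWord k ≠ 0 → ∀ a : ℕ,
    S.t ^ a * S.el k = S.el k * S.t ^ (a * chiWord k) := by
  intro k
  induction k with
  | nil => intro _ a; simp [el_nil, chiWord]
  | cons g k ih =>
    intro hk a
    have hc : chiWord (g :: k) = chiWord k * chiLetter g % 5 := rfl
    rw [hc] at hk ⊢
    have hk' : chiWord k ≠ 0 := fun h => hk (by simp [h])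
    have hg : chiLetter g ≠ 0 := fun h => hk (by simp [h])
    have hpow : S.t ^ a * S.el [g] = S.el [g] * S.t ^ (a * chiLetter g) := by
      rw [mul_comm a, pow_mul, ← S.conj_letter g hg]
      have h := conj_pow (a := (S.el [g])⁻¹) (b := S.t) (i := a)
      rw [inv_inv] at h
      rw [h, mul_assoc (S.el [g])⁻¹, mul_inv_cancel_left]
    have hmod : S.t ^ (a * (chiWord k * chiLetter g % 5)) = S.t ^ (a * chiLetter g * chiWord k) := by
      rw [← tpow_mod, ← tpow_mod (n := a * chiLetter g * chiWord k)]
      congr 1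
      rw [Nat.mul_mod, Nat.mod_mod, ← Nat.mul_mod]
      congr 1
      ring
    rw [show g :: k = [g] ++ k from rfl, el_append, ← mul_assoc, hpow, mul_assoc, ih hk', hmod,
      ← mul_assoc]

/-- The product of the powers of `t` separated by `z`. -/
noncomputable def syms : List ℕ → G
  | [] => 1
  | [a] => S.t ^ a
  | a :: b :: r => syms (b :: r) * S.el [4] * S.t ^ a

theorem syms_addExp (e : ℕ) : ∀ s, S.syms (addExp e s) = S.syms s * S.t ^ e
  | [] => by simp [addExp, syms, tpow_mod]
  | [a] => by simp [addExp, syms, tpow_mod, pow_add]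
  | a :: b :: r => by simp [addExp, syms, tpow_mod, pow_add, mul_assoc]

theorem syms_z : ∀ s, s ≠ [] → S.syms (0 :: s) = S.syms s * S.el [4]
  | [], h => absurd rfl h
  | _ :: _, _ => by simp [syms]

theorem patVal_sound : ∀ (s : List ℕ) (a : ℕ), patVal s = some a → S.syms s = S.t ^ a := by
  intro s a h
  set z := S.el [4] with hz
  have hzz : z * z = 1 := S.el_zz
  have hzi : z⁻¹ = z := inv_eq_of_mul_eq_one_right hzz
  have h3 : (z * S.t) ^ 3 = 1 := S.zt
  have h3' : (z * S.t⁻¹) ^ 3 = 1 := by
    have e : z * S.t⁻¹ = z * (z * S.t)⁻¹ * z⁻¹ := by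
      rw [mul_inv_rev, hzi]; simp [mul_assoc, hzz]
    rw [e, conj_pow, inv_pow, h3]; simp
  have ht4 : S.t ^ 4 = S.t⁻¹ := eq_inv_of_mul_eq_one_left (by rw [← pow_succ]; exact S.t5)
  unfold patVal at h
  split at h <;> simp only [Option.some.injEq, reduceCtorEq] at h
  · subst h; simp [syms]
  all_goals subst h
  all_goals simp only [syms, pow_zero, pow_one, one_mul, mul_one, ← hz, ht4]
  · rw [← h3]; simp [pow_succ, mul_assoc]
  · have e : (S.t * z) ^ 3 = z⁻¹ * (z * S.t) ^ 3 * z := by simp [pow_succ, mul_assoc]
    rw [show S.t * z * S.t * z * S.t * z = (S.t * z) ^ 3 by simp [pow_succ, mul_assoc], e, h3]; simp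
  · rw [← h3']; simp [pow_succ, mul_assoc]
  · have e : (S.t⁻¹ * z) ^ 3 = z⁻¹ * (z * S.t⁻¹) ^ 3 * z := by simp [pow_succ, mul_assoc]
    rw [show S.t⁻¹ * z * S.t⁻¹ * z * S.t⁻¹ * z = (S.t⁻¹ * z) ^ 3 by simp [pow_succ, mul_assoc], e, h3']; simp
  · refine eq_inv_of_mul_eq_one_left ?_
    rw [← h3]; simp [pow_succ, mul_assoc]
  · have : z * S.t⁻¹ * z * S.t⁻¹ * z * S.t⁻¹ = 1 := by rw [← h3']; simp [pow_succ, mul_assoc]
    exact mul_inv_eq_one.1 this

/-- The meaning of an equation. -/
def Rel (g : ℕ → G) (f : DFact) : Prop :=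
  g f.i * S.el f.w * S.t ^ f.a * (g f.j * S.el f.v)⁻¹ ∈ S.π.range

theorem rel_orient {g : ℕ → G} {f : DFact} (h : S.Rel g f) (ha : f.a < 5) (rev : Bool) :
    let o := orient f rev
    g o.1 * S.el o.2.1 * S.t ^ o.2.2.1 * (g o.2.2.2.1 * S.el o.2.2.2.2)⁻¹ ∈ S.π.range := by
  cases rev
  · exact h
  · have h' := S.π.range.inv_mem h
    have ht : S.t ^ ((5 - f.a) % 5) = (S.t ^ f.a)⁻¹ := by
      rw [tpow_mod]
      refine eq_inv_of_mul_eq_one_left ?_
      rw [← pow_add, ← tpow_mod]
      simp [Nat.sub_add_cancel ha.le]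
    simp only [orient, cond_true, ht]
    simpa [mul_inv_rev, mul_assoc] using h'

/-- An equation translated on the right by a word. -/
theorem rel_translate {gi gj A B : G} {e : ℕ} {k : List ℕ}
    (h : gi * A * S.t ^ e * (gj * B)⁻¹ ∈ S.π.range) (hk : e = 0 ∨ chiWord k ≠ 0) :
    gi * (A * S.el k) * S.t ^ (e * chiWord k) * (gj * (B * S.el k))⁻¹ ∈ S.π.range := by
  rcases hk with rfl | hk
  · simpa [mul_assoc] using h
  · rw [mul_assoc gi, mul_assoc A, ← S.conj_word k hk e]
    simpa [mul_assoc] using h

theorem runMoves_sound {g : ℕ → G} {acc : List DFact} (hacc : ∀ f ∈ acc, S.Rel g f ∧ f.a < 5) :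
    ∀ (ms : List Move) (i : ℕ) (u s : List ℕ) (X : G), s ≠ [] →
      X * S.syms s * (g i * S.el u)⁻¹ ∈ S.π.range →
      ∀ j v r, runMoves acc ms i u s = some (j, v, r) →
        X * S.syms r * (g j * S.el v)⁻¹ ∈ S.π.range := by
  intro ms
  induction ms with
  | nil =>
    intro i u s X _ h j v r he
    simp only [runMoves, Option.some.injEq, Prod.mk.injEq] at he
    obtain ⟨rfl, rfl, rfl⟩ := he
    exact h
  | cons m ms ih =>
    intro i u s X hs h j v r he
    cases m with
    | z =>
      rw [runMoves] at he
      refine ih i (u ++ [4]) (0 :: s) X (List.cons_ne_nil _ _) ?_ j v r he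
      rw [syms_z S s hs, el_append]
      simpa [mul_assoc] using h
    | use f rev k =>
      rw [runMoves] at he
      cases hf : acc[f]? with
      | none => simp [hf] at he
      | some x =>
        simp only [hf] at he
        obtain ⟨hR, ha⟩ := hacc x (List.mem_of_getElem? hf)
        have ho := S.rel_orient hR ha rev
        generalize orient x rev = o at he ho
        cases hc : (Nat.beq o.1 i && wordEq (o.2.1 ++ k) u && okWord k &&
            (Nat.beq o.2.2.1 0 || !Nat.beq (chiWord k) 0)) with
        | false => simp [hc] at he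
        | true =>
          simp only [hc, cond_true] at he
          simp only [Bool.and_eq_true, Bool.or_eq_true, Nat.beq_eq, Bool.not_eq_true',
            ← Bool.not_eq_true] at hc
          obtain ⟨⟨⟨hi, heq⟩, -⟩, hk⟩ := hc
          subst hi
          have hu : S.el u = S.el o.2.1 * S.el k := by rw [← el_append]; exact (S.el_eq heq).symm
          have h2 := S.rel_translate ho hk
          rw [← hu] at h2
          have h3 := S.π.range.mul_mem h h2
          cases he0 : Nat.beq o.2.2.1 0 with
          | true =>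
            rw [he0, cond_true] at he
            rw [Nat.beq_eq] at he0
            refine ih _ _ s X hs ?_ j v r he
            rw [el_append]
            simpa [he0, mul_assoc] using h3
          | false =>
            rw [he0, cond_false] at he
            refine ih _ _ _ X (by cases s <;> simp [addExp]) ?_ j v r he
            rw [el_append, syms_addExp]
            simpa [mul_assoc] using h3

theorem checkAll_sound {g : ℕ → G} {nodes : List DFact} (hg0 : g 0 = 1)
    (hg : ∀ k x, nodes[k]? = some x → g (k + 1) = g x.i * S.el x.w * S.t ^ x.a) :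
    ∀ (l : List (DFact × Deriv)) (acc : List DFact), checkAll nodes l acc = true →
      (∀ f ∈ acc, S.Rel g f ∧ f.a < 5) → ∀ f ∈ acc ++ l.map Prod.fst, S.Rel g f ∧ f.a < 5 := by
  intro l
  induction l with
  | nil => intro acc _ h f hf; exact h f (by simpa using hf)
  | cons p ps ih =>
    intro acc hc hacc
    simp only [checkAll, Bool.and_eq_true, Nat.blt_eq] at hc
    obtain ⟨⟨⟨-, ha⟩, hf⟩, hrest⟩ := hc
    suffices S.Rel g p.1 by
      intro f hfmem
      refine ih (acc ++ [p.1]) hrest ?_ f (by simpa using hfmem)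
      intro f hf
      rcases List.mem_append.1 hf with hf | hf
      · exact hacc f hf
      · rw [List.mem_singleton] at hf; subst hf; exact ⟨this, ha⟩
    obtain ⟨x, d⟩ := p
    cases d with
    | base =>
      simp only [checkFact, Bool.and_eq_true, Nat.beq_eq] at hf
      obtain ⟨⟨hi, hj⟩, h0⟩ := hf
      simp only [Rel, hi, hj, h0, hg0, one_mul, pow_zero, mul_one]
      exact S.π.range.mul_mem ⟨_, rfl⟩ (S.π.range.inv_mem ⟨_, rfl⟩)
    | tree =>
      simp only [checkFact] at hf
      cases hn : nodes[x.j - 1]? with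
      | none => simp [hn] at hf
      | some y =>
        simp only [hn, Bool.and_eq_true, Nat.blt_eq, Nat.beq_eq, decide_eq_true_eq] at hf
        obtain ⟨⟨⟨⟨hj, hi⟩, hw⟩, hA⟩, hv⟩ := hf
        have := hg _ _ hn
        rw [Nat.sub_add_cancel hj] at this
        simp [Rel, this, hi, hw, hA, hv, el_nil, mul_assoc]
    | walk ms =>
      simp only [checkFact] at hf
      cases hr : runMoves acc ms x.i x.w [0] with
      | none => simp [hr] at hf
      | some q =>
        obtain ⟨j, u, s⟩ := q
        simp only [hr, Bool.and_eq_true, Nat.beq_eq, decide_eq_true_eq] at hf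
        obtain ⟨⟨hj, he⟩, hp⟩ := hf
        have := S.runMoves_sound hacc ms x.i x.w [0] (g x.i * S.el x.w) (by simp)
          (by simp [syms]) j u s hr
        rw [S.patVal_sound s x.a hp, hj, S.el_eq he] at this
        exact this

end Setting

end Cfsg.Agent.Lib.CosetEnum.HNP
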