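import Cfsg.Agent.Lib.CosetEnum.HNP.Group

/-!
Simplicity from a complete certificate: the action is faithful, the image of `P` is maximal, and a
proper quotient generated by the image of `P` is trivial.
-/

set_option autoImplicit false

namespace Cfsg.Agent.Lib.CosetEnum.HNP

open Cfsg.Agent.Lib.CosetEnum Cfsg.Agent.Lib.ExactCover

/-- Follow a path of the tree from a coset. -/
noncomputable def walkPath (B : BlockData) (nds : List NodeData) :
    List (List ℕ × ℕ) → List StepCert → ℕ → List ℕ → Option (ℕ × List ℕ)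
  | [], _, i, u => bif Nat.blt i nds.length then some (i, u) else none
  | _ :: _, [], _, _ => none
  | p :: ps, s :: ss, i, u =>
    match stepTo B nds i (u ++ p.1) p.2 s with
    | none => none
    | some q => walkPath B nds ps ss q.1 q.2

/-- The climbs reach node 1 from every node. -/
noncomputable def climbsOK (B : BlockData) (nds : List NodeData) (paths : List (List (List ℕ × ℕ))) :
    List (ℕ × ℕ × List ℕ × List StepCert) → List ℕ → Bool
  | [], known => (List.range (nds.length - 1)).all fun i => decide (i + 1 ∈ known)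
  | c :: cs, known => Nat.blt c.1 nds.length && decide (c.2.1 ∈ known) &&
      (match walkPath B nds (paths.getD c.1 []) c.2.2.2 c.1 c.2.2.1 with
       | none => false
       | some q => Nat.beq q.1 c.2.1) && climbsOK B nds paths cs (c.1 :: known)

/-- The paths follow the tree. -/
noncomputable def pathsOK (nodes : List DFact) (paths : List (List (List ℕ × ℕ))) : Bool :=
  decide (paths.getD 0 [] = []) && (List.range nodes.length).all fun k =>
    let x := nodes.getD k ⟨0, [], 0, 0, []⟩
    decide (paths.getD (k + 1) [] = paths.getD x.i [] ++ [(x.w, x.a)])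

namespace FullCert

variable (F : FullCert)

/-- The element of a path. -/
noncomputable def pathElt (p : List (List ℕ × ℕ)) : Cfsg.Spor.HN :=
  (p.map fun q => setting.el q.1 * setting.t ^ q.2).prod

theorem g_eq_path {paths : List (List (List ℕ × ℕ))} (h : pathsOK F.nodes paths = true) :
    ∀ i < F.C.nds.length, F.g i = pathElt (paths.getD i []) := by
  simp only [pathsOK, Bool.and_eq_true, decide_eq_true_eq, List.all_eq_true, List.mem_range] at h
  intro i
  induction i using Nat.strong_induction_on with
  | _ i ih =>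
    intro hi
    match i, hi with
    | 0, _ => rw [g, nodeRep, h.1]; simp [pathElt]
    | k + 1, hi =>
      have hk : k < F.nodes.length := by rw [F.len] at hi; omega
      obtain ⟨h1, hi', -⟩ := F.tree_facts hk
      rw [g, nodeRep, dif_pos h1, h.2 k hk, ← g, ih _ (Nat.lt_succ_of_le h1) hi']
      simp [pathElt, mul_assoc]

theorem hom_point (i : Fin F.C.nds.length) (p : PresentedGroup pres) :
    F.hom (F.g i.1 * toHN p)⁻¹ F.base = F.C.pt i p := by
  rw [mul_inv_rev, map_mul, Equiv.Perm.mul_apply, F.point_reached i.1 i.2, ← map_inv, hom_toHN]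
  change F.C.right p⁻¹⁻¹ (F.C.pt i 1) = _
  rw [Cert.right_pt, inv_inv, one_mul]

theorem walk_sound : ∀ (ps : List (List ℕ × ℕ)) (ss : List StepCert) (i : Fin F.C.nds.length)
    (u : List ℕ) (X : Cfsg.Spor.HN) (q : ℕ × List ℕ),
    walkPath F.C.B F.C.nds ps ss i.1 u = some q → F.hom X⁻¹ F.base = F.C.pt i (val u) →
      ∃ hq : q.1 < F.C.nds.length, F.hom (X * pathElt ps)⁻¹ F.base = F.C.pt ⟨q.1, hq⟩ (val q.2) := by
  intro ps
  induction ps with
  | nil =>
    intro ss i u X q h hX
    simp only [walkPath] at h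
    rw [show Nat.blt i.1 F.C.nds.length = true by rw [Nat.blt_eq]; exact i.2, cond_true] at h
    cases h
    exact ⟨i.2, by simpa [pathElt] using hX⟩
  | cons p ps ih =>
    intro ss i u X q h hX
    cases ss with
    | nil => simp [walkPath] at h
    | cons s ss =>
      simp only [walkPath] at h
      cases hs : stepTo F.C.B F.C.nds i.1 (u ++ p.1) p.2 s with
      | none => simp [hs] at h
      | some r =>
        simp only [hs] at h
        obtain ⟨hi, hr, -, e⟩ := Cert.stepTo_sound hs
        have hX' : F.hom (X * (setting.el p.1 * setting.t ^ p.2))⁻¹ F.base =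
            F.C.pt ⟨r.1, hr⟩ (val r.2) := by
          have ht : (setting.t ^ p.2)⁻¹ = setting.t ^ (4 * p.2) := by
            refine inv_eq_of_mul_eq_one_right ?_
            rw [← pow_add, ← setting.tpow_mod, show (p.2 + 4 * p.2) % 5 = 0 by omega, pow_zero]
          rw [mul_inv_rev, mul_inv_rev, map_mul, map_mul, Equiv.Perm.mul_apply, Equiv.Perm.mul_apply,
            hX, Setting.el, show setting.π = toHN from rfl, ← map_inv, hom_toHN, ht, map_pow, hom_t,
            tPerm_pow, F.C.tmap_congr (b := p.2) (by omega)]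
          change F.C.tmap p.2 (F.C.right (val p.1)⁻¹⁻¹ (F.C.pt i (val u))) = _
          rw [inv_inv, Cert.right_pt, ← val_append]
          exact e
        obtain ⟨hq, he⟩ := ih ss ⟨r.1, hr⟩ r.2 _ q h hX'
        refine ⟨hq, ?_⟩
        rw [pathElt, List.map_cons, List.prod_cons, ← mul_assoc]
        exact he

theorem maximal {paths : List (List (List ℕ × ℕ))} {cs : List (ℕ × ℕ × List ℕ × List StepCert)}
    (hp : pathsOK F.nodes paths = true) (hc : climbsOK F.C.B F.C.nds paths cs [1] = true)
    (h1 : F.g 1 = setting.t) (M : Subgroup Cfsg.Spor.HN) (hM : toHN.range ≤ M)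
    (hne : ¬ M ≤ toHN.range) : M = ⊤ := by
  obtain ⟨x, hx, hx'⟩ := SetLike.not_le_iff_exists.1 hne
  obtain ⟨i, p, hi⟩ := F.U_top x
  have hgi : F.g i.1 ∈ M := by
    have h2 := M.mul_mem (M.inv_mem (hM hi)) hx
    have h3 : F.g i.1 * toHN p ∈ M := by
      convert h2 using 1
      group
    simpa [mul_assoc] using M.mul_mem h3 (M.inv_mem (hM ⟨p, rfl⟩))
  have hi0 : i.1 ≠ 0 := fun h0 => hx' (by
    have hg0 : F.g i.1 = 1 := by rw [h0, g, nodeRep]
    rw [hg0, one_mul] at hi
    simpa using toHN.range.mul_mem hi ⟨p, rfl⟩)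
  -- node 1
  suffices ∀ (l : List (ℕ × ℕ × List ℕ × List StepCert)) (known : List ℕ),
      climbsOK F.C.B F.C.nds paths l known = true →
      (∀ k ∈ known, F.g k ∈ M → F.g 1 ∈ M) →
      ∀ k, k + 1 < F.C.nds.length → F.g (k + 1) ∈ M → F.g 1 ∈ M by
    have h1M : setting.t ∈ M := by
      rw [← h1]
      refine this cs [1] hc (fun k hk h => by simpa [List.mem_singleton.1 hk] using h) (i.1 - 1) ?_ ?_
      · rw [Nat.sub_add_cancel (Nat.pos_of_ne_zero hi0)]; exact i.2
      · rwa [Nat.sub_add_cancel (Nat.pos_of_ne_zero hi0)]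
    rw [eq_top_iff, ← gens_top, Subgroup.closure_le]
    rintro y (⟨q, rfl⟩ | rfl)
    · exact hM ⟨q, rfl⟩
    · exact h1M
  intro l
  induction l with
  | nil =>
    intro known h hk k hkl hg
    simp only [climbsOK, List.all_eq_true, List.mem_range, decide_eq_true_eq] at h
    exact hk _ (h k (by omega)) hg
  | cons c l ih =>
    intro known h hk
    simp only [climbsOK, Bool.and_eq_true, decide_eq_true_eq, Nat.blt_eq] at h
    obtain ⟨⟨⟨ha, hj⟩, hw⟩, hrest⟩ := h
    refine ih _ hrest fun k hk' hg => ?_
    rcases List.mem_cons.1 hk' with rfl | hk'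
    swap
    · exact hk k hk' hg
    generalize hs : walkPath F.C.B F.C.nds _ _ _ _ = r at hw
    cases r with
    | none => simp at hw
    | some q =>
      simp only [Nat.beq_eq] at hw
      obtain ⟨hq, he⟩ := F.walk_sound _ _ ⟨c.1, ha⟩ _ (F.g c.1 * toHN (val c.2.2.1)) q hs
        (F.hom_point ⟨c.1, ha⟩ _)
      rw [← F.g_eq_path hp c.1 ha] at he
      have hfix : F.hom (F.g q.1 * toHN (val q.2) *
          (F.g c.1 * toHN (val c.2.2.1) * F.g c.1)⁻¹) F.base = F.base := by
        rw [map_mul, Equiv.Perm.mul_apply, he, ← F.hom_point ⟨q.1, hq⟩ (val q.2), ← Equiv.Perm.mul_apply,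
          ← map_mul, mul_inv_cancel, map_one, Equiv.Perm.one_apply]
      have hm := hM ((F.exact.2 _).2 hfix)
      have h4 := M.mul_mem hm (M.mul_mem (M.mul_mem hg (hM ⟨val c.2.2.1, rfl⟩)) hg)
      have h5 : F.g q.1 * toHN (val q.2) ∈ M := by
        convert h4 using 1
        group
      have h6 := M.mul_mem h5 (M.inv_mem (hM ⟨val q.2, rfl⟩))
      rw [mul_inv_cancel_right] at h6
      exact hk _ hj (hw ▸ h6)

/-- A homomorphism for which the images of `P` cover everything is trivial. -/
theorem quotient_trivial {Q : Type*} [Group Q] (f : Cfsg.Spor.HN →* Q)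
    (h : ∀ z, ∃ p, f z = f (toHN p)) : ∀ z, f z = 1 := by
  have hcentral : ∀ g < 6, wordEq ([0, 0] ++ [g]) ([g] ++ [0, 0]) = true := by decide +kernel
  have hc : ∀ p : PresentedGroup pres, val [0, 0] * p = p * val [0, 0] := by
    intro p
    have hp : p ∈ Subgroup.closure {x | ∃ g < letters.K, letters.phi pres g = x} := by
      rw [Letters.gen_closure letters_col]; trivial
    induction hp using Subgroup.closure_induction with
    | mem x hx =>
      obtain ⟨g, hg, rfl⟩ := hx
      have := val_eq_of_wordEq (hcentral g hg)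
      rw [val_append, val_append] at this
      simpa [val] using this
    | one => simp
    | mul a b _ _ ha hb => rw [← mul_assoc, ha, mul_assoc, hb, ← mul_assoc]
    | inv a _ ha => exact (Commute.inv_right ha).eq
  obtain ⟨q, hq⟩ := h setting.t
  set s := f setting.t with hs
  have h5 : s ^ 5 = 1 := by rw [hs, ← map_pow, setting.t5, map_one]
  have hxx : setting.t * toHN (val [0, 0]) = toHN (val [0, 0]) * setting.t ^ 4 := by
    have := setting.conj_word [0, 0] (by decide) 1
    rw [pow_one, one_mul, show chiWord [0, 0] = 4 from rfl] at this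
    exact this
  have h3 : s ^ 4 = s := by
    have h1 := congrArg f hxx
    rw [map_mul, map_mul, map_pow, ← hs, hq, ← map_mul, ← map_mul, ← hc q, map_mul, map_mul,
      ← hq] at h1
    exact (mul_left_cancel h1).symm
  have hs1 : s = 1 := by
    rw [pow_succ, h3] at h5
    have h4 : s ^ 4 = (s * s) * (s * s) := by simp [pow_succ, mul_assoc]
    rw [h4, h5, mul_one] at h3
    exact h3.symm
  have hP : ∀ l, l ∈ letters.RL → f (toHN (val l)) = 1 := fun l hl => by
    rw [show val l = 1 from Letters.prod_rel rels_mem letters_ok letters_col hl, map_one, map_one]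
  let φ : PresentedGroup pres →* Q := f.comp toHN
  set X := φ (val [0]) with hX
  set Y := φ (val [2]) with hY
  set Z := φ (val [4]) with hZ
  have hZ3 : Z ^ 3 = 1 := by
    have := congrArg f setting.zt
    rw [map_pow, map_mul, map_one, ← hs, hs1, mul_one] at this
    exact this
  have hcons : ∀ (g g' : ℕ) (l : List ℕ), φ (val (g :: g' :: l)) = φ (val [g]) * φ (val (g' :: l)) := by
    intro g g' l; rw [← map_mul, ← val_append]; rfl
  have hinv : ∀ g < 6, φ (val [ExactCover.flip g]) = (φ (val [g]))⁻¹ := fun g hg => by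
    rw [val_flip hg, map_inv]
  have hX1 : φ (val [1]) = X⁻¹ := hinv 0 (by omega)
  have hY3 : φ (val [3]) = Y⁻¹ := hinv 2 (by omega)
  have hZ5 : φ (val [5]) = Z⁻¹ := hinv 4 (by omega)
  have hnil : φ (val []) = 1 := by rw [val_nil, map_one]
  have rel : ∀ k < 10, φ (val (relWords.getD k [])) = 1 := fun k hk => hP _ (by
    revert k; decide +kernel)
  have hz2 : Z * Z = 1 := by
    simpa [relWords, hcons, hnil, ← hZ] using rel 6 (by omega)
  have hZ1 : Z = 1 := by
    rw [pow_succ, pow_two, hz2, one_mul] at hZ3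
    exact hZ3
  have hx4 : X ^ 4 = 1 := by
    have h4 : φ (val [0, 0, 0, 0]) = 1 := by
      rw [show val [0, 0, 0, 0] = 1 from X4.eq_one, map_one]
    simpa [hcons, hnil, ← hX, pow_succ, mul_assoc] using h4
  have hx3 : X * X * X = 1 := by
    simpa [relWords, hcons, hnil, hX1, hY3, hZ5, ← hX, ← hY, ← hZ, hZ1, mul_assoc] using rel 9 (by omega)
  have hX0 : X = 1 := by
    rw [pow_succ, pow_succ, pow_two, hx3, one_mul] at hx4
    exact hx4
  have hy8 : Y ^ 8 = 1 := by
    simpa [relWords, hcons, hnil, ← hX, ← hY, hX0, pow_succ, mul_assoc] using rel 4 (by omega)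
  have hy15 : Y ^ 15 = 1 := by
    simpa [relWords, hcons, hnil, hX1, ← hX, ← hY, hX0, pow_succ, mul_assoc] using rel 3 (by omega)
  have hY0 : Y = 1 := by
    have : Y ^ 16 = 1 := by rw [show 16 = 8 * 2 from rfl, pow_mul, hy8, one_pow]
    rwa [pow_succ, hy15, one_mul] at this
  intro z
  have hz : z ∈ Subgroup.closure (Set.range (PresentedGroup.of (rels := hnRels))) := by
    rw [PresentedGroup.closure_range_of]; trivial
  induction hz using Subgroup.closure_induction with
  | mem x hx =>
    obtain ⟨g, rfl⟩ := hx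
    cases g
    · rw [← toHN_val0]; exact hX0
    · rw [← toHN_val2]; exact hY0
    · rw [← toHN_val4]; exact hZ1
    · exact hs1
  | one => exact map_one f
  | mul a b _ _ ha hb => rw [map_mul, ha, hb, one_mul]
  | inv a _ ha => rw [map_inv, ha, inv_one]

theorem isSimple {paths : List (List (List ℕ × ℕ))} {cs : List (ℕ × ℕ × List ℕ × List StepCert)}
    (hp : pathsOK F.nodes paths = true) (hc : climbsOK F.C.B F.C.nds paths cs [1] = true)
    (h1 : F.g 1 = setting.t) (hne : Nontrivial Cfsg.Spor.HN)
    (hfaith : ∀ p, F.ptsHom p = 1 → p = 1) : IsSimpleGroup Cfsg.Spor.HN where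
  exists_pair_ne := hne.exists_pair_ne
  eq_bot_or_eq_top_of_normal N hN := by
    by_cases hle : N ≤ toHN.range
    · left
      rw [eq_bot_iff]
      intro n hn
      obtain ⟨p, rfl⟩ := hle hn
      have hp1 : p = 1 := by
        refine hfaith p (Equiv.ext fun x => ?_)
        obtain ⟨z, rfl⟩ := F.hom_transitive x
        have hc := hle (hN.conj_mem _ hn z⁻¹)
        rw [F.exact.2, map_mul, map_mul, Equiv.Perm.mul_apply, Equiv.Perm.mul_apply, inv_inv, hom_toHN,
          map_inv, Equiv.Perm.inv_def, Equiv.symm_apply_eq] at hc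
        simpa using hc
      simp [hp1]
    · right
      haveI := hN
      have htop : N ⊔ toHN.range = ⊤ :=
        F.maximal hp hc h1 _ le_sup_right fun h => hle (le_sup_left.trans h)
      have h := quotient_trivial (QuotientGroup.mk' N) fun z => by
        have hz : z ∈ N ⊔ toHN.range := by rw [htop]; trivial
        obtain ⟨n, hn, y, ⟨p, rfl⟩, rfl⟩ := Subgroup.mem_sup_of_normal_left.1 hz
        refine ⟨p, ?_⟩
        rw [map_mul, show QuotientGroup.mk' N n = 1 from (QuotientGroup.eq_one_iff n).2 hn, one_mul]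
      rw [eq_top_iff]
      intro z _
      exact (QuotientGroup.eq_one_iff z).1 (h z)

end FullCert

end Cfsg.Agent.Lib.CosetEnum.HNP
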