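import Cfsg.Agent.Lib.CosetEnum.HNP.Data.Card1
import Cfsg.Agent.Lib.CosetEnum.HNP.Data.Card2
import Cfsg.Agent.Lib.CosetEnum.HNP.Data.Card3
import Cfsg.Agent.Lib.CosetEnum.HNP.Data.Card4
import Cfsg.Agent.Lib.CosetEnum.HNP.Data.Card5
import Cfsg.Agent.Lib.CosetEnum.HNP.Data.Card6
import Cfsg.Agent.Lib.CosetEnum.HNP.Data.Card7
import Cfsg.Agent.Lib.CosetEnum.HNP.Data.Card8
import Cfsg.Agent.Lib.CosetEnum.HNP.Data.CheckWalks0
import Cfsg.Agent.Lib.CosetEnum.HNP.Data.CheckWalks1
import Cfsg.Agent.Lib.CosetEnum.HNP.Data.CheckWalks2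
import Cfsg.Agent.Lib.CosetEnum.HNP.Data.CheckWalks3
import Cfsg.Agent.Lib.CosetEnum.HNP.Data.CheckWalks4
import Cfsg.Agent.Lib.CosetEnum.HNP.Data.CheckWalks5
import Cfsg.Agent.Lib.CosetEnum.HNP.Data.CheckWalks6
import Cfsg.Agent.Lib.CosetEnum.HNP.Data.CheckWalks7
import Cfsg.Agent.Lib.CosetEnum.HNP.Data.CheckWalks8
import Cfsg.Agent.Lib.CosetEnum.HNP.Data.Check0
import Cfsg.Agent.Lib.CosetEnum.HNP.Data.Check1
import Cfsg.Agent.Lib.CosetEnum.HNP.Data.Check2
import Cfsg.Agent.Lib.CosetEnum.HNP.Data.Check3
import Cfsg.Agent.Lib.CosetEnum.HNP.Data.Check4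
import Cfsg.Agent.Lib.CosetEnum.HNP.Data.Check5
import Cfsg.Agent.Lib.CosetEnum.HNP.Data.Check6
import Cfsg.Agent.Lib.CosetEnum.HNP.Data.Check7
import Cfsg.Agent.Lib.CosetEnum.HNP.Data.Check8
import Cfsg.Agent.Lib.CosetEnum.HNP.Data.Climb
import Cfsg.Agent.Lib.CosetEnum.HNP.Data.Reach
import Cfsg.Agent.Lib.CosetEnum.HNP.Simple

/-!
The presented Harada-Norton group: index 1539000 over the image of `P`, order, simplicity.
-/

set_option autoImplicit false
set_option maxRecDepth 100000

namespace Cfsg.Agent.Lib.CosetEnum.HNP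

open Cfsg.Agent.Lib.CosetEnum Cfsg.Agent.Lib.ExactCover

theorem allNodes_length : allNodes.length = 9 := rfl

/-- The certificate. -/
noncomputable def cert : Cert where
  B := blocks
  nds := allNodes
  facts := derivs.map Prod.fst
  hB := blocks_ok
  ok i hi := by
    rw [allNodes_length] at hi
    interval_cases i
    · exact node0_ok
    · exact node1_ok
    · exact node2_ok
    · exact node3_ok
    · exact node4_ok
    · exact node5_ok
    · exact node6_ok
    · exact node7_ok
    · exact node8_ok

/-- All composition certificates. -/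
def allComps : List (List (List (List (StepCert × List (ℕ × Bool))))) :=
  [comps0, comps1, comps2, comps3, comps4, comps5, comps6, comps7, comps8]

/-- All relation certificates. -/
def allRels : List (List (List ((StepCert × StepCert × StepCert) × List (ℕ × Bool)))) :=
  [rels0, rels1, rels2, rels3, rels4, rels5, rels6, rels7, rels8]

theorem walks_ok : ∀ i < allNodes.length, ∀ m < (nodeAt allNodes i).classes.length,
    checkComps blocks allNodes i m ((allComps.getD i []).getD m []) = true ∧
      checkRels blocks allNodes cent i m ((allRels.getD i []).getD m []) = true := by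
  intro i hi m hm
  rw [allNodes_length] at hi
  interval_cases i
  · exact walks0_ok m (classes0_length ▸ hm)
  · exact walks1_ok m (classes1_length ▸ hm)
  · exact walks2_ok m (classes2_length ▸ hm)
  · exact walks3_ok m (classes3_length ▸ hm)
  · exact walks4_ok m (classes4_length ▸ hm)
  · exact walks5_ok m (classes5_length ▸ hm)
  · exact walks6_ok m (classes6_length ▸ hm)
  · exact walks7_ok m (classes7_length ▸ hm)
  · exact walks8_ok m (classes8_length ▸ hm)

/-- The complete certificate. -/
noncomputable def fullCert : FullCert where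
  C := cert
  nodes := nodeFacts
  derivs := derivs
  treeStep := treeSteps
  D := cent
  comps i m := (allComps.getD i []).getD m []
  rels i m := (allRels.getD i []).getD m []
  facts_eq := rfl
  derivs_ok := derivs_ok
  len := rfl
  tree_ok := by decide +kernel
  base_ok := by decide +kernel
  cent_ok := cent_ok
  comps_ok i hi m hm := (walks_ok i hi m hm).1
  rels_ok i hi m hm := (walks_ok i hi m hm).2

theorem card_stab0 : Nat.card (stab allNodes 0) = 177408000 := by
  have h : stab allNodes 0 = ⊤ := fullCert.stab_zero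
  rw [h, Subgroup.card_top, card_P.1]

theorem card_stab_all : ∀ i < 9, Nat.card (stab allNodes i) =
    [177408000, 126000, 5040, 500, 240, 640, 1440, 30720, 80640].getD i 0 := by
  intro i hi
  interval_cases i
  · exact card_stab0
  · exact card_stab1
  · exact card_stab2
  · exact card_stab3
  · exact card_stab4
  · exact card_stab5
  · exact card_stab6
  · exact card_stab7
  · exact card_stab8

theorem index_stab : ∀ i < 9, (stab allNodes i).index =
    [1, 1408, 35200, 354816, 739200, 277200, 123200, 5775, 2200].getD i 0 := by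
  intro i hi
  have h := (stab allNodes i).card_mul_index
  rw [card_P.1, card_stab_all i hi] at h
  interval_cases i <;> simp only [List.getD_cons_succ, List.getD_cons_zero] at h ⊢ <;> omega

theorem card_pts : Nat.card fullCert.C.Pts = 1539000 := by
  change Nat.card (Σ i : Fin 9, PresentedGroup pres ⧸ stab allNodes i.1) = _
  rw [Nat.card_sigma]
  have h : ∀ i : Fin 9, Nat.card (PresentedGroup pres ⧸ stab allNodes i.1) =
      [1, 1408, 35200, 354816, 739200, 277200, 123200, 5775, 2200].getD i.1 0 := fun i => index_stab i.1 i.2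
  simp only [h]
  decide +kernel

theorem index_range : toHN.range.index = 1539000 := by
  rw [fullCert.exact.1, card_pts]

theorem node1_fixes : ∀ q ∈ stab allNodes 1, act q ⟨0, by omega⟩ = (⟨0, by omega⟩ : Fin 1408) := by
  intro q hq
  refine closure_induction_mul (p := fun q => act q ⟨0, by omega⟩ = (⟨0, by omega⟩ : Fin 1408))
    ?_ ?_ ?_ hq
  · rintro _ ⟨s, hs, rfl⟩
    have hc : ∀ s ∈ (nodeAt allNodes 1).gens, okWord s = true ∧ scan 6 table s 0 = 0 := by
      decide +kernel
    obtain ⟨hok, hfix⟩ := hc s hs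
    have := act_word s (okWord_iff.1 hok) ⟨0, by omega⟩
    rw [hfix] at this
    have h2 : (act (val s))⁻¹ (⟨0, by omega⟩ : Fin 1408) = ⟨0, by omega⟩ := Fin.ext this
    conv_lhs => rw [← h2]
    simp
  · simp
  · intro a b ha hb
    rw [map_mul, Equiv.Perm.mul_apply, hb, ha]

theorem ptsHom_injective : ∀ p, fullCert.ptsHom p = 1 → p = 1 := by
  intro p hp
  obtain ⟨-, hinj⟩ := card_P
  apply hinj
  rw [map_one]
  refine Equiv.ext fun x => ?_
  obtain ⟨r, hr⟩ := transitive_of_reach act 6 (letters.phi pres) (by omega : 0 < 1408)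
    (fun g hg i => act_phi g hg i) reach_ok x
  have h1 : fullCert.C.right p⁻¹ (fullCert.C.pt ⟨1, by decide⟩ r⁻¹) = fullCert.C.pt ⟨1, by decide⟩ r⁻¹ :=
    congrArg (fun σ : Equiv.Perm fullCert.C.Pts => σ (fullCert.C.pt ⟨1, by decide⟩ r⁻¹)) hp
  rw [Cert.right_pt, Cert.pt_eq_iff] at h1
  have h2 := node1_fixes _ h1
  simp only [inv_inv, map_mul, map_inv, Equiv.Perm.mul_apply, Equiv.Perm.inv_def] at h2
  rw [Equiv.symm_apply_eq, hr, Equiv.symm_apply_eq] at h2
  simpa using h2.symm

theorem toHN_injective : Function.Injective toHN := by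
  rw [injective_iff_map_eq_one]
  intro p hp
  refine ptsHom_injective p ?_
  rw [← FullCert.hom_toHN, hp, map_one]

theorem card_HN : Nat.card Cfsg.Spor.HN = 273030912000000 := by
  rw [← toHN.range.card_mul_index, index_range,
    Nat.card_congr (MonoidHom.ofInjective toHN_injective).symm.toEquiv, card_P.1]

theorem simple_HN : IsSimpleGroup Cfsg.Spor.HN := by
  refine fullCert.isSimple (paths := paths) (cs := climbs) (by decide +kernel) (by decide +kernel) ?_ ?_
    ptsHom_injective
  · rw [fullCert.g_eq_path (paths := paths) (by decide +kernel) 1 (by decide)]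
    have hp : paths.getD 1 [] = [([], 1)] := by decide +kernel
    rw [hp]
    simp [FullCert.pathElt, Setting.el_nil]
  · haveI : Finite Cfsg.Spor.HN := Nat.finite_of_card_ne_zero (by rw [card_HN]; norm_num)
    exact Finite.one_lt_card_iff_nontrivial.1 (by rw [card_HN]; norm_num)

theorem range_eq : toHN.range =
    (Subgroup.closure ({Cfsg.Spor.HN.x, Cfsg.Spor.HN.y, Cfsg.Spor.HN.z} : Set (FreeGroup Cfsg.Spor.HN.Gen))).map
      (PresentedGroup.mk hnRels) := by
  rw [MonoidHom.map_closure, MonoidHom.range_eq_map, ← PresentedGroup.closure_range_of pres,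
    MonoidHom.map_closure]
  congr 1
  ext g
  constructor
  · rintro ⟨_, ⟨i, rfl⟩, rfl⟩
    refine ⟨FreeGroup.of (xyz i), ?_, (toHN_of i).symm⟩
    fin_cases i <;> simp [xyz]
  · rintro ⟨w, hw, rfl⟩
    simp only [Set.mem_insert_iff, Set.mem_singleton_iff] at hw
    rcases hw with rfl | rfl | rfl
    · exact ⟨_, ⟨0, rfl⟩, toHN_of 0⟩
    · exact ⟨_, ⟨1, rfl⟩, toHN_of 1⟩
    · exact ⟨_, ⟨2, rfl⟩, toHN_of 2⟩

end Cfsg.Agent.Lib.CosetEnum.HNP
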