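import Cfsg.Agent.Lib.CosetEnum.HNP.Classes

/-!
The powers of `t` as maps of the disjoint union of the coset spaces of the node stabilisers.
-/

set_option autoImplicit false

namespace Cfsg.Agent.Lib.CosetEnum.HNP

open Cfsg.Agent.Lib.CosetEnum Cfsg.Agent.Lib.ExactCover

/-- A certificate of a finished enumeration. -/
structure Cert where
  B : BlockData
  nds : List NodeData
  facts : List DFact
  hB : B.check = true
  ok : ∀ i < nds.length, NodeOK B nds facts i

namespace Cert

variable (C : Cert)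

/-- The cosets: node and coset of its stabiliser. -/
abbrev Pts : Type := Σ i : Fin C.nds.length, PresentedGroup pres ⧸ stab C.nds i.1

/-- The coset of an element at a node. -/
noncomputable def pt (i : Fin C.nds.length) (p : PresentedGroup pres) : C.Pts :=
  ⟨i, QuotientGroup.mk p⁻¹⟩

theorem pt_eq_iff (i : Fin C.nds.length) (p q : PresentedGroup pres) :
    C.pt i p = C.pt i q ↔ p * q⁻¹ ∈ stab C.nds i.1 := by
  simp [pt, QuotientGroup.eq]

theorem pt_surjective (x : C.Pts) : ∃ i p, C.pt i p = x := by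
  obtain ⟨i, q⟩ := x
  induction q using QuotientGroup.induction_on with
  | H z => exact ⟨i, z⁻¹, by simp [pt]⟩

/-- Right translation of points. -/
noncomputable def right (p : PresentedGroup pres) (x : C.Pts) : C.Pts := ⟨x.1, p⁻¹ • x.2⟩

theorem right_pt (i : Fin C.nds.length) (p q : PresentedGroup pres) :
    C.right q (C.pt i p) = C.pt i (p * q) := by
  simp only [right, pt, mul_inv_rev]
  rfl

/-- The class of a node with its five targets. -/
abbrev cls (i m : ℕ) : NClass := (nodeAt C.nds i).cls m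

theorem target_ok {i m : ℕ} (hi : i < C.nds.length) (hm : m < (nodeAt C.nds i).classes.length)
    {e : ℕ} (he : e < 5) :
    ((C.cls i m).target e).1 < C.nds.length ∧ okWord ((C.cls i m).target e).2 = true := by
  have := (C.ok i hi).cls m hm
  simp only [checkClass, Bool.and_eq_true, List.all_eq_true, List.mem_range, Nat.blt_eq] at this
  exact ⟨((this.1.1.2 e he).1).1, ((this.1.1.2 e he).1).2⟩

theorem target_zero {i m : ℕ} (hi : i < C.nds.length) (hm : m < (nodeAt C.nds i).classes.length) :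
    (C.cls i m).target 0 = (i, (C.cls i m).w) := by
  have := (C.ok i hi).cls m hm
  simp only [checkClass, Bool.and_eq_true, decide_eq_true_eq] at this
  exact this.1.1.1.2

/-- The point of a target. -/
noncomputable def tpt (i : Fin C.nds.length) (m : ℕ) (hm : m < (nodeAt C.nds i.1).classes.length)
    (e : ℕ) : C.Pts :=
  C.pt ⟨((C.cls i.1 m).tg e).1, (C.target_ok i.2 hm (Nat.mod_lt e (by omega))).1⟩
    (val ((C.cls i.1 m).tg e).2)

theorem tpt_congr (i : Fin C.nds.length) (m : ℕ) (hm : m < (nodeAt C.nds i.1).classes.length)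
    {e e' : ℕ} (h : e % 5 = e' % 5) : C.tpt i m hm e = C.tpt i m hm e' := by
  have : (C.cls i.1 m).tg e = (C.cls i.1 m).tg e' := by simp only [NClass.tg, h]
  simp only [tpt, this]

theorem tpt_zero (i : Fin C.nds.length) (m : ℕ) (hm : m < (nodeAt C.nds i.1).classes.length) :
    C.tpt i m hm 0 = C.pt i (val (C.cls i.1 m).w) := by
  have h := C.target_zero i.2 hm
  have h' : (C.cls i.1 m).tg 0 = (i.1, (C.cls i.1 m).w) := h
  simp only [tpt, h']

/-- An element stabilising a class shifts the targets. -/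
def Good (i : Fin C.nds.length) (m : ℕ) (c : PresentedGroup pres) : Prop :=
  ∃ hm : m < (nodeAt C.nds i.1).classes.length, ∃ k, kWord k = true ∧ val k = c ∧
    ∀ e, C.right c (C.tpt i m hm e) = C.tpt i m hm (e * chiWord k)

theorem good_gen (i : Fin C.nds.length) {m : ℕ} (hm : m < (nodeAt C.nds i.1).classes.length)
    {k : List ℕ} (hk : k ∈ (C.cls i.1 m).cgens) : C.Good i m (val k) := by
  have h := (C.ok i.1 i.2).cls m hm
  simp only [checkClass, Bool.and_eq_true, List.all_eq_true, List.mem_range, Nat.beq_eq] at h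
  obtain ⟨⟨-, hkw⟩, hgood⟩ := h
  refine ⟨hm, k, hkw k hk, rfl, fun e => ?_⟩
  obtain ⟨j, hj, rfl⟩ := List.mem_iff_getElem.1 hk
  have he : e % 5 < 5 := Nat.mod_lt _ (by omega)
  obtain ⟨hq, hw⟩ := hgood j hj (e % 5) he
  rw [List.getD_eq_getElem _ _ hj] at hq hw
  set k := (C.cls i.1 m).cgens[j] with hkdef
  have hq' : ((C.cls i.1 m).tg (e % 5 * chiWord k)) = (C.cls i.1 m).tg (e * chiWord k) := by
    simp only [NClass.tg]
    congr 1
    rw [Nat.mul_mod, Nat.mod_mod, ← Nat.mul_mod]
  rw [hq'] at hq hw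
  have hlt : ((C.cls i.1 m).tg (e * chiWord k)).1 < C.nds.length :=
    (C.target_ok i.2 hm (Nat.mod_lt _ (by omega))).1
  obtain ⟨-, hmem⟩ := genWord_spec (gens_ok (C.ok _ hlt)) (((C.cls i.1 m).good.getD j []).getD (e % 5) [])
  rw [val_eq_of_wordEq hw, val_append, val_append,
    val_invWord _ (show okWord ((C.cls i.1 m).tg (e * chiWord k)).2 = true from
      (C.target_ok i.2 hm (Nat.mod_lt _ (by omega))).2)] at hmem
  have hfin : (⟨((C.cls i.1 m).tg e).1, (C.target_ok i.2 hm he).1⟩ : Fin C.nds.length) =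
      ⟨((C.cls i.1 m).tg (e * chiWord k)).1, hlt⟩ := Fin.ext hq.symm
  rw [tpt, right_pt, tpt, hfin, pt_eq_iff]
  exact hmem

theorem good_one (i : Fin C.nds.length) {m : ℕ} (hm : m < (nodeAt C.nds i.1).classes.length) :
    C.Good i m 1 := by
  refine ⟨hm, [], by decide, val_nil, fun e => ?_⟩
  obtain ⟨j, p, h⟩ := C.pt_surjective (C.tpt i m hm e)
  rw [show chiWord [] = 1 from rfl, mul_one, ← h, right_pt, mul_one]

theorem right_right (p q : PresentedGroup pres) (x : C.Pts) :
    C.right q (C.right p x) = C.right (p * q) x := by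
  obtain ⟨i, r, rfl⟩ := C.pt_surjective x
  rw [right_pt, right_pt, right_pt, mul_assoc]

theorem good_mul (i : Fin C.nds.length) {m : ℕ} {a b : PresentedGroup pres} (ha : C.Good i m a)
    (hb : C.Good i m b) : C.Good i m (a * b) := by
  obtain ⟨hm, k, hk, rfl, ha⟩ := ha
  obtain ⟨_, l, hl, rfl, hb⟩ := hb
  refine ⟨hm, k ++ l, kWord_append hk hl, val_append k l, fun e => ?_⟩
  rw [← right_right, ha, hb]
  apply C.tpt_congr
  rw [mul_assoc, Nat.mul_mod, ← chiWord_append, ← Nat.mul_mod]

/-- The images of a block under the stabiliser stay in its class and differ by stabilisers of it. -/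
theorem schreier (i : Fin C.nds.length) {s : PresentedGroup pres} (hs : s ∈ stab C.nds i.1) :
    ∀ b < 352, ∃ b' < 352, ∃ k, kWord k = true ∧ s * val (C.B.rep b) = val (C.B.rep b') * val k ∧
      ((nodeAt C.nds i.1).lab b').1 = ((nodeAt C.nds i.1).lab b).1 ∧
      C.Good i ((nodeAt C.nds i.1).lab b).1
        (val ((nodeAt C.nds i.1).lab b').2 * val k * (val ((nodeAt C.nds i.1).lab b).2)⁻¹) := by
  set nd := nodeAt C.nds i.1 with hnd
  have hok := C.ok i.1 i.2
  refine closure_induction_mul (p := fun s => ∀ b < 352, ∃ b' < 352, ∃ k, kWord k = true ∧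
      s * val (C.B.rep b) = val (C.B.rep b') * val k ∧ (nd.lab b').1 = (nd.lab b).1 ∧
      C.Good i (nd.lab b).1 (val (nd.lab b').2 * val k * (val (nd.lab b).2)⁻¹)) ?_ ?_ ?_ hs
  · intro x hx
    obtain ⟨g, hg, rfl⟩ := hx
    intro b hb
    obtain ⟨j, hj, rfl⟩ := List.mem_iff_getElem.1 hg
    have h := hok.block b hb
    simp only [checkBlock, Bool.and_eq_true, List.all_eq_true, List.mem_range, Nat.blt_eq,
      Nat.beq_eq] at h
    obtain ⟨⟨hmlt, -⟩, h⟩ := h
    obtain ⟨⟨⟨⟨hb', hk⟩, hl⟩, h1⟩, h2⟩ := h j hj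
    rw [List.getD_eq_getElem _ _ hj] at h1
    refine ⟨_, hb', _, hk, ?_, hl, ?_⟩
    · rw [← val_append, ← val_append]; exact val_eq_of_wordEq h1
    · rw [← val_append, val_eq_of_wordEq h2, val_append, mul_inv_cancel_right]
      have hcg : ∀ c ∈ (nd.cls (nd.lab b).1).cgens, okWord c = true := by
        intro c hc
        have h' := hok.cls _ hmlt
        simp only [checkClass, Bool.and_eq_true, List.all_eq_true] at h'
        exact kWord_okWord (h'.1.2 c hc)
      refine closure_induction_mul ?_ (C.good_one i hmlt) (fun a b => C.good_mul i)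
        (genWord_spec hcg _).2
      rintro _ ⟨c, hc, rfl⟩
      exact C.good_gen i hmlt hc
  · intro b hb
    exact ⟨b, hb, [], by decide, by simp [val_nil], rfl, by
      rw [val_nil, mul_one, mul_inv_cancel]; exact C.good_one i (lab_ok hok hb).1⟩
  · intro a a' ha ha' b hb
    obtain ⟨b1, hb1, k1, hk1, e1, l1, g1⟩ := ha' b hb
    obtain ⟨b2, hb2, k2, hk2, e2, l2, g2⟩ := ha b1 hb1
    refine ⟨b2, hb2, k2 ++ k1, kWord_append hk2 hk1, ?_, l2.trans l1, ?_⟩
    · rw [mul_assoc, e1, ← mul_assoc, e2, val_append, mul_assoc]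
    · rw [l1] at g2
      have := C.good_mul i g2 g1
      rw [val_append]
      convert this using 1
      group

/-- A point split along a class. -/
structure Split (x : C.Pts) where
  i : Fin C.nds.length
  m : ℕ
  hm : m < (nodeAt C.nds i.1).classes.length
  k : List ℕ
  hk : kWord k = true
  eq : x = C.pt i (val (C.cls i.1 m).w * val k)

theorem split_exists (x : C.Pts) : Nonempty (C.Split x) := by
  obtain ⟨i, p, rfl⟩ := C.pt_surjective x
  obtain ⟨b, hb, k, hk, rfl⟩ := exists_block C.hB p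
  obtain ⟨σ, hσ, hd⟩ := decomp (C.ok i.1 i.2) hb
  refine ⟨⟨i, _, (lab_ok (C.ok i.1 i.2) hb).1, ((nodeAt C.nds i.1).lab b).2 ++ k,
    kWord_append (lab_ok (C.ok i.1 i.2) hb).2 hk, ?_⟩⟩
  rw [pt_eq_iff, hd, val_append]
  convert hσ using 1
  group

theorem exists_inv (k : List ℕ) (hk : kWord k = true) (a : ℕ) : ∃ e < 5, e * chiWord k % 5 = a % 5 := by
  have h2 := chiWord_lt k
  have h1 := chiWord_ne (kWord_iff.1 hk)
  have h5 : a % 5 < 5 := Nat.mod_lt _ (by omega)
  generalize chiWord k = c at h1 h2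
  generalize a % 5 = r at h5
  have key : ∀ c < 5, c ≠ 0 → ∀ r < 5, ∃ e < 5, e * c % 5 = r := by decide
  exact key c h2 h1 r h5

theorem cancel_mod {a b c : ℕ} (hc : c ≠ 0) (hc5 : c < 5) (h : a * c % 5 = b * c % 5) :
    a % 5 = b % 5 := by
  rw [Nat.mul_mod] at h
  conv at h => rhs; rw [Nat.mul_mod]
  have ha : a % 5 < 5 := Nat.mod_lt _ (by omega)
  have hb : b % 5 < 5 := Nat.mod_lt _ (by omega)
  generalize a % 5 = u at ha h ⊢
  generalize b % 5 = v at hb h ⊢
  have key : ∀ c < 5, c ≠ 0 → ∀ u < 5, ∀ v < 5, u * (c % 5) % 5 = v * (c % 5) % 5 → u = v := by decide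
  exact key c hc5 hc u ha v hb h

/-- The image under `t^a` of a split point. -/
noncomputable def img {x : C.Pts} (s : C.Split x) (a : ℕ) : C.Pts :=
  C.right (val s.k) (C.tpt s.i s.m s.hm (Classical.choose (exists_inv s.k s.hk a)))

theorem img_eq {x : C.Pts} (s : C.Split x) {a e : ℕ} (h : e * chiWord s.k % 5 = a % 5) :
    C.img s a = C.right (val s.k) (C.tpt s.i s.m s.hm e) := by
  obtain ⟨-, he⟩ := Classical.choose_spec (exists_inv s.k s.hk a)
  rw [img, C.tpt_congr s.i s.m s.hm (cancel_mod (chiWord_ne (kWord_iff.1 s.hk)) (chiWord_lt _)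
    (he.trans h.symm))]

/-- The image does not depend on the splitting. -/
theorem img_unique {x : C.Pts} (s s' : C.Split x) (a : ℕ) : C.img s a = C.img s' a := by
  obtain ⟨i, m, hm, k, hk, rfl⟩ := s
  obtain ⟨i', m', hm', k', hk', heq⟩ := s'
  obtain rfl : i = i' := congrArg Sigma.fst heq
  have hok := C.ok i.1 i.2
  rw [eq_comm, pt_eq_iff] at heq
  obtain ⟨hw, hbm, hlab, hroot⟩ := class_root hok hm
  obtain ⟨hw', hbm', hlab', hroot'⟩ := class_root hok hm'
  obtain ⟨b, hb, κ, hκ, hs, hl, hG⟩ := C.schreier i heq _ hbm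
  have hK := (lab_ok hok hbm).2
  have hK' := (lab_ok hok hbm').2
  have e1 : val (C.B.rep b) * val (κ ++ invWord ((nodeAt C.nds i.1).lab ((nodeAt C.nds i.1).cls m).bm).2 ++ k) =
      val (C.B.rep ((nodeAt C.nds i.1).cls m').bm) * val (invWord ((nodeAt C.nds i.1).lab ((nodeAt C.nds i.1).cls m').bm).2 ++ k') := by
    rw [val_append, val_append, val_append, val_invWord _ (kWord_okWord hK),
      val_invWord _ (kWord_okWord hK'), ← mul_assoc, ← mul_assoc, ← hs, hroot, hroot']
    group
  have hbb : b = ((nodeAt C.nds i.1).cls m').bm := block_unique C.hB hb hbm'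
    (kWord_append (kWord_append hκ (kWord_invWord hK)) hk) (kWord_append (kWord_invWord hK') hk') e1
  obtain rfl : m = m' := by rw [← hlab, ← hlab', ← hbb, hl]
  subst hbb
  rw [hlab] at hG
  obtain ⟨_, kc, hkc, hc, hG⟩ := hG
  rw [← hc] at hG
  have hk'eq : val k' = val kc * val k := by
    rw [hc]
    have e2 := mul_left_cancel e1
    rw [val_append, val_append, val_append, val_invWord _ (kWord_okWord hK)] at e2
    calc val k' = val ((nodeAt C.nds i.1).lab ((nodeAt C.nds i.1).cls m).bm).2 * ((val ((nodeAt C.nds i.1).lab ((nodeAt C.nds i.1).cls m).bm).2)⁻¹ * val k') := by group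
      _ = _ := by rw [← e2]; group
  obtain ⟨e', he', hee'⟩ := exists_inv k' hk' a
  rw [C.img_eq ⟨i, m, hm', k', hk', _⟩ hee']
  have hchi : chiWord k' % 5 = chiWord kc * chiWord k % 5 := by
    rw [chiWord_congr C.hB hk' (kWord_append hkc hk) (by rw [hk'eq, val_append]), chiWord_append]
  have he : e' * chiWord kc * chiWord k % 5 = a % 5 := by
    rw [mul_assoc, Nat.mul_mod, ← hchi, ← Nat.mul_mod, hee']
  rw [C.img_eq ⟨i, m, hm, k, hk, _⟩ he]
  change C.right (val k) (C.tpt i m hm (e' * chiWord kc)) = C.right (val k') (C.tpt i m hm e')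
  rw [hk'eq, ← right_right, hG]

/-- The map given by a power of `t`. -/
noncomputable def tmap (a : ℕ) (x : C.Pts) : C.Pts := C.img (C.split_exists x).some a

theorem tmap_eq {x : C.Pts} (s : C.Split x) {a e : ℕ} (h : e * chiWord s.k % 5 = a % 5) :
    C.tmap a x = C.right (val s.k) (C.tpt s.i s.m s.hm e) := by
  rw [tmap, C.img_unique _ s, C.img_eq s h]

theorem tmap_right {x : C.Pts} {d : List ℕ} (hd : kWord d = true) {a e : ℕ}
    (h : e * chiWord d % 5 = a % 5) :
    C.tmap a (C.right (val d) x) = C.right (val d) (C.tmap e x) := by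
  obtain ⟨s⟩ := C.split_exists x
  obtain ⟨f, -, hf⟩ := exists_inv s.k s.hk e
  rw [C.tmap_eq s hf, right_right, ← val_append]
  let s' : C.Split (C.right (val d) x) := ⟨s.i, s.m, s.hm, s.k ++ d, kWord_append s.hk hd, by
    conv_lhs => rw [s.eq]
    rw [right_pt, val_append, mul_assoc]⟩
  refine C.tmap_eq s' ?_
  rw [Nat.mul_mod, chiWord_append, ← Nat.mul_mod, ← mul_assoc, Nat.mul_mod, hf, ← Nat.mul_mod, h]

theorem tmap_zero (x : C.Pts) : C.tmap 0 x = x := by
  obtain ⟨s⟩ := C.split_exists x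
  rw [C.tmap_eq s (a := 0) (e := 0) (by simp), tpt_zero, right_pt]
  exact s.eq.symm

theorem tmap_congr {a b : ℕ} (h : a % 5 = b % 5) (x : C.Pts) : C.tmap a x = C.tmap b x := by
  obtain ⟨s⟩ := C.split_exists x
  obtain ⟨f, -, hf⟩ := exists_inv s.k s.hk a
  rw [C.tmap_eq s hf, C.tmap_eq s (hf.trans h)]

/-- The powers compose once they do on the targets of the classes. -/
theorem tmap_tmap (h : ∀ (i : Fin C.nds.length) (m : ℕ) (hm : m < (nodeAt C.nds i.1).classes.length),
    ∀ e < 5, ∀ f < 5, C.tmap f (C.tpt i m hm e) = C.tpt i m hm (e + f))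
    (a b : ℕ) (x : C.Pts) : C.tmap b (C.tmap a x) = C.tmap (a + b) x := by
  obtain ⟨s⟩ := C.split_exists x
  obtain ⟨e, he5, he⟩ := exists_inv s.k s.hk a
  obtain ⟨f, hf5, hf⟩ := exists_inv s.k s.hk b
  rw [C.tmap_eq s he, C.tmap_right s.hk hf, h _ _ _ e he5 f hf5]
  refine (C.tmap_eq s ?_).symm
  rw [add_mul, Nat.add_mod, he, hf, ← Nat.add_mod]

end Cert

end Cfsg.Agent.Lib.CosetEnum.HNP
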