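import Cfsg.Agent.Lib.CosetEnum.HNP.Steps
import Cfsg.Prelude.Def_Spor_HN

/-!
The presented Harada-Norton group over the image of `P`: the map from `P`, the element `t`, and the
consequences of a complete certificate: exact index and exact stabilisers.
-/

set_option autoImplicit false

namespace Cfsg.Agent.Lib.CosetEnum.HNP

open Cfsg.Agent.Lib.CosetEnum Cfsg.Agent.Lib.ExactCover

/-- The relator set of the presented group. -/
abbrev hnRels : Set (FreeGroup Cfsg.Spor.HN.Gen) :=
  Cfsg.Spor.coxRelators Cfsg.Spor.HN.edges ∪ {r | r ∈ Cfsg.Spor.HN.extra}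

/-- The generators `x, y, z` as free generators. -/
def xyz : Fin 3 → Cfsg.Spor.HN.Gen := ![.x, .y, .z]

theorem relWords_map : ∀ l ∈ relWords,
    FreeGroup.map xyz (FreeGroup.mk (l.map (stdSym 3))) ∈ Cfsg.Spor.HN.extra := by
  decide +kernel

theorem of_extra {r : FreeGroup Cfsg.Spor.HN.Gen} (h : r ∈ Cfsg.Spor.HN.extra) :
    PresentedGroup.mk hnRels r = 1 :=
  PresentedGroup.one_of_mem (Or.inr h)

theorem lift_xyz : ∀ r ∈ pres,
    FreeGroup.lift (fun i => (PresentedGroup.of (xyz i) : Cfsg.Spor.HN)) r = 1 := by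
  rintro r hr
  obtain ⟨l, hl, rfl⟩ := List.mem_map.1 hr
  have h : FreeGroup.lift (fun i => (PresentedGroup.of (xyz i) : Cfsg.Spor.HN)) =
      (PresentedGroup.mk hnRels).comp (FreeGroup.map xyz) :=
    FreeGroup.ext_hom _ _ fun i => by simp [PresentedGroup.of]
  rw [h]
  exact of_extra (relWords_map l hl)

/-- The map from `P`. -/
noncomputable def toHN : PresentedGroup pres →* Cfsg.Spor.HN := PresentedGroup.toGroup lift_xyz

theorem toHN_of (i : Fin 3) : toHN (PresentedGroup.of i) = PresentedGroup.of (xyz i) :=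
  PresentedGroup.toGroup.of lift_xyz

theorem val_gen (i : Fin 3) : val [2 * i.val] = PresentedGroup.of i := by
  rw [← Letters.phi_col (L := letters) (S := pres) letters_col]
  simp [val]
  rfl

theorem toHN_val0 : toHN (val [0]) = PresentedGroup.of .x := by
  rw [show ([0] : List ℕ) = [2 * (0 : Fin 3).val] from rfl, val_gen, toHN_of]; rfl

theorem toHN_val2 : toHN (val [2]) = PresentedGroup.of .y := by
  rw [show ([2] : List ℕ) = [2 * (1 : Fin 3).val] from rfl, val_gen, toHN_of]; rfl

theorem toHN_val4 : toHN (val [4]) = PresentedGroup.of .z := by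
  rw [show ([4] : List ℕ) = [2 * (2 : Fin 3).val] from rfl, val_gen, toHN_of]; rfl

/-- The presented group as a setting for the double coset enumeration. -/
noncomputable def setting : Setting Cfsg.Spor.HN where
  π := toHN
  t := PresentedGroup.of .t
  t5 := of_extra (r := FreeGroup.of Cfsg.Spor.HN.Gen.t ^ 5) (by simp [Cfsg.Spor.HN.extra])
  xt := by
    rw [toHN_val0]
    have h5 : (PresentedGroup.of Cfsg.Spor.HN.Gen.t : Cfsg.Spor.HN) ^ 5 = 1 :=
      of_extra (r := FreeGroup.of Cfsg.Spor.HN.Gen.t ^ 5) (by simp [Cfsg.Spor.HN.extra])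
    have h : (PresentedGroup.of Cfsg.Spor.HN.Gen.x : Cfsg.Spor.HN)⁻¹ * PresentedGroup.of .t *
        PresentedGroup.of .x * (PresentedGroup.of .t) ^ 2 = 1 :=
      of_extra (r := (Cfsg.Spor.HN.x⁻¹ * Cfsg.Spor.HN.t * Cfsg.Spor.HN.x) * Cfsg.Spor.HN.t ^ 2)
        (by simp [Cfsg.Spor.HN.extra])
    rw [eq_inv_of_mul_eq_one_left h]
    exact inv_eq_of_mul_eq_one_right (by rw [← pow_add]; exact h5)
  yt := by
    rw [toHN_val2]
    have h : (PresentedGroup.of Cfsg.Spor.HN.Gen.t : Cfsg.Spor.HN)⁻¹ * (PresentedGroup.of .y)⁻¹ *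
        PresentedGroup.of .t * PresentedGroup.of .y = 1 :=
      of_extra (r := Cfsg.Spor.HN.t⁻¹ * Cfsg.Spor.HN.y⁻¹ * Cfsg.Spor.HN.t * Cfsg.Spor.HN.y)
        (by simp [Cfsg.Spor.HN.extra])
    rw [mul_assoc, mul_assoc] at h
    have h' := eq_inv_of_mul_eq_one_right h
    rw [inv_inv] at h'
    rwa [mul_assoc]
  zt := by
    rw [toHN_val4]
    exact of_extra (r := (Cfsg.Spor.HN.z * Cfsg.Spor.HN.t) ^ 3) (by simp [Cfsg.Spor.HN.extra])

theorem gens_top : Subgroup.closure (Set.range toHN ∪ {setting.t}) = ⊤ := by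
  rw [eq_top_iff, ← PresentedGroup.closure_range_of hnRels, Subgroup.closure_le]
  rintro _ ⟨g, rfl⟩
  apply Subgroup.subset_closure
  cases g
  · exact Or.inl ⟨_, toHN_val0⟩
  · exact Or.inl ⟨_, toHN_val2⟩
  · exact Or.inl ⟨_, toHN_val4⟩
  · exact Or.inr rfl

/-- The representative of a node, along the tree. -/
noncomputable def nodeRep (nodes : List DFact) : ℕ → Cfsg.Spor.HN
  | 0 => 1
  | k + 1 =>
    if h : (nodes.getD k ⟨0, [], 0, 0, []⟩).i ≤ k then
      nodeRep nodes (nodes.getD k ⟨0, [], 0, 0, []⟩).i * setting.el (nodes.getD k ⟨0, [], 0, 0, []⟩).w *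
        setting.t ^ (nodes.getD k ⟨0, [], 0, 0, []⟩).a
    else 1
termination_by k => k

/-- A complete certificate. -/
structure FullCert where
  C : Cert
  nodes : List DFact
  derivs : List (DFact × Deriv)
  treeStep : List (StepCert × List (ℕ × Bool))
  D : CentData
  comps : ℕ → ℕ → List (List (StepCert × List (ℕ × Bool)))
  rels : ℕ → ℕ → List ((StepCert × StepCert × StepCert) × List (ℕ × Bool))
  facts_eq : C.facts = derivs.map Prod.fst
  derivs_ok : checkAll nodes derivs [] = true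
  len : C.nds.length = nodes.length + 1
  tree_ok : ((List.range nodes.length).all fun k =>
    let x := nodes.getD k ⟨0, [], 0, 0, []⟩
    let c := treeStep.getD k ((0, [], 0), [])
    Nat.ble x.i k &&
      match stepTo C.B C.nds x.i x.w x.a c.1 with
      | none => false
      | some p => sameCoset C.nds p.1 p.2 (k + 1) [] c.2) = true
  base_ok : decide ((nodeAt C.nds 0).gens = [[0], [2], [4]]) = true
  cent_ok : D.check = true
  comps_ok : ∀ i < C.nds.length, ∀ m < (nodeAt C.nds i).classes.length,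
    checkComps C.B C.nds i m (comps i m) = true
  rels_ok : ∀ i < C.nds.length, ∀ m < (nodeAt C.nds i).classes.length,
    checkRels C.B C.nds D i m (rels i m) = true

namespace FullCert

variable (F : FullCert)

/-- The representative of a node. -/
noncomputable abbrev g (i : ℕ) : Cfsg.Spor.HN := nodeRep F.nodes i

theorem tree_facts {k : ℕ} (hk : k < F.nodes.length) :
    let x := F.nodes.getD k ⟨0, [], 0, 0, []⟩
    x.i ≤ k ∧ ∃ (hi : x.i < F.C.nds.length) (hj : k + 1 < F.C.nds.length),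
      F.C.tmap x.a (F.C.pt ⟨x.i, hi⟩ (val x.w)) = F.C.pt ⟨k + 1, hj⟩ 1 := by
  have h := F.tree_ok
  simp only [List.all_eq_true, List.mem_range, Bool.and_eq_true, Nat.ble_eq] at h
  obtain ⟨h1, h2⟩ := h k hk
  refine ⟨h1, ?_⟩
  generalize hs : stepTo F.C.B F.C.nds _ _ _ _ = r at h2
  cases r with
  | none => simp at h2
  | some p =>
    obtain ⟨hi, hp, -, e⟩ := Cert.stepTo_sound hs
    obtain ⟨hj, e'⟩ := Cert.sameCoset_sound hp h2
    exact ⟨hi, hj, by rw [e, e', val_nil]⟩

theorem rel_of_fact : ∀ f ∈ F.C.facts, setting.Rel F.g f ∧ f.a < 5 := by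
  intro f hf
  refine setting.checkAll_sound (by rw [g, nodeRep]) ?_ F.derivs [] F.derivs_ok (by simp) f
    (by simpa [← F.facts_eq] using hf)
  intro k x hx
  obtain ⟨hk, he⟩ := List.getElem?_eq_some_iff.1 hx
  have hd : F.nodes.getD k ⟨0, [], 0, 0, []⟩ = x := by rw [List.getD_eq_getElem _ _ hk, he]
  have := (F.tree_facts hk).1
  rw [g, nodeRep, dif_pos this, hd]

theorem stab_le (i : Fin F.C.nds.length) {q : PresentedGroup pres} (hq : q ∈ stab F.C.nds i.1) :
    F.g i.1 * toHN q * (F.g i.1)⁻¹ ∈ toHN.range := by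
  refine closure_induction_mul (p := fun q => F.g i.1 * toHN q * (F.g i.1)⁻¹ ∈ toHN.range)
    ?_ ?_ ?_ hq
  · intro x hx
    obtain ⟨s, hs, rfl⟩ := hx
    obtain ⟨j, hj, rfl⟩ := List.mem_iff_getElem.1 hs
    have h := (F.C.ok i.1 i.2).gens
    simp only [checkGens, List.all_eq_true, List.mem_range, Bool.and_eq_true] at h
    obtain ⟨-, h⟩ := h j hj
    cases hf : F.C.facts[(nodeAt F.C.nds i.1).gfact.getD j 0]? with
    | none => rw [hf] at h; simp at h
    | some f =>
      simp only [hf, Bool.and_eq_true, Nat.beq_eq] at h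
      obtain ⟨⟨⟨⟨hi, hj'⟩, ha⟩, hv⟩, hw⟩ := h
      obtain ⟨hR, -⟩ := F.rel_of_fact f (List.mem_of_getElem? hf)
      simp only [Setting.Rel, hi, hj', ha, pow_zero, mul_one, mul_inv_rev] at hR
      rw [List.getD_eq_getElem _ _ hj] at hw
      rw [val_eq_of_wordEq hw, val_append, val_invWord _ hv, map_mul, map_inv]
      simpa [Setting.el, setting, mul_assoc] using hR
  · simp
  · intro a b ha hb
    have := toHN.range.mul_mem ha hb
    simpa [map_mul, mul_assoc] using this

/-- The union of the double cosets. -/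
def U : Set Cfsg.Spor.HN :=
  {x | ∃ (i : Fin F.C.nds.length) (p : PresentedGroup pres), x * (F.g i.1 * toHN p)⁻¹ ∈ toHN.range}

theorem U_mul_t (x : Cfsg.Spor.HN) (hx : x ∈ F.U) (a : ℕ) : x * setting.t ^ a ∈ F.U := by
  obtain ⟨i, p, hx⟩ := hx
  obtain ⟨b, hb, k, hk, rfl⟩ := exists_block F.C.hB p
  have hok := F.C.ok i.1 i.2
  obtain ⟨σ, hσ, hd⟩ := decomp hok hb
  obtain ⟨hm, hK⟩ := lab_ok hok hb
  set m := ((nodeAt F.C.nds i.1).lab b).1
  set K := ((nodeAt F.C.nds i.1).lab b).2
  set c := (nodeAt F.C.nds i.1).cls m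
  have hkk := kWord_append hK hk
  obtain ⟨e, he5, he⟩ := Cert.exists_inv (K ++ k) hkk a
  obtain ⟨hj, -⟩ := F.C.target_ok i.2 hm he5
  refine ⟨⟨(c.target e).1, hj⟩, val (c.target e).2 * val (K ++ k), ?_⟩
  -- the equation of the target
  have hrel : F.g i.1 * setting.el c.w * setting.t ^ e *
      (F.g (c.target e).1 * setting.el (c.target e).2)⁻¹ ∈ toHN.range := by
    rcases Nat.eq_zero_or_pos e with rfl | hpos
    · have hz := F.C.target_zero i.2 hm
      simp only [c, Cert.cls] at hz ⊢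
      rw [hz]
      simp only [pow_zero, mul_one, mul_inv_cancel]
      exact one_mem _
    · have h := hok.cls m hm
      simp only [checkClass, Bool.and_eq_true, List.all_eq_true, List.mem_range, Bool.or_eq_true,
        Nat.beq_eq] at h
      obtain ⟨-, hf⟩ := h.1.1.2 e he5
      rcases hf with hf | hf
      · omega
      cases hq : F.C.facts[((nodeAt F.C.nds i.1).cls m).fact.getD e 0]? with
      | none =>
        rw [hq] at hf
        simp at hf
      | some f =>
        simp only [hq, Bool.and_eq_true, Nat.beq_eq] at hf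
        obtain ⟨⟨⟨⟨h1, h2⟩, h3⟩, h4⟩, h5⟩ := hf
        obtain ⟨hR, -⟩ := F.rel_of_fact f (List.mem_of_getElem? hq)
        simp only [Setting.Rel, h1, h3, h4, setting.el_eq h2, setting.el_eq h5] at hR
        exact hR
  have hst := F.stab_le i hσ
  have h2 := setting.rel_translate hrel (Or.inr (chiWord_ne (kWord_iff.1 hkk)))
  have ht : setting.t ^ (e * chiWord (K ++ k)) = setting.t ^ a := by
    rw [← setting.tpow_mod, he, setting.tpow_mod]
  rw [ht] at h2
  have := toHN.range.mul_mem (toHN.range.mul_mem hx hst) h2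
  convert this using 1
  simp only [Setting.el, map_mul, hd, val_append, mul_inv_rev, setting]
  group

theorem U_top (x : Cfsg.Spor.HN) : x ∈ F.U := by
  have hx : x ∈ Subgroup.closure (Set.range toHN ∪ {setting.t}) := by rw [gens_top]; trivial
  suffices ∀ y ∈ F.U, y * x ∈ F.U by
    have h1 : (1 : Cfsg.Spor.HN) ∈ F.U := by
      refine ⟨⟨0, by rw [F.len]; omega⟩, 1, ?_⟩
      simp [g, nodeRep, one_mem]
    simpa using this 1 h1
  have hP : ∀ y ∈ F.U, ∀ q, y * toHN q ∈ F.U := by
    rintro y ⟨i, p, hy⟩ q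
    exact ⟨i, p * q, by simpa [map_mul, mul_assoc] using hy⟩
  induction hx using Subgroup.closure_induction_left with
  | one => intro y hy; simpa using hy
  | mul_left a ha b _ ih =>
    intro y hy
    rw [← mul_assoc]
    refine ih _ ?_
    rcases ha with ⟨q, rfl⟩ | rfl
    · exact hP y hy q
    · simpa using F.U_mul_t y hy 1
  | inv_mul_cancel a ha b _ ih =>
    intro y hy
    rw [← mul_assoc]
    refine ih _ ?_
    rcases ha with ⟨q, rfl⟩ | rfl
    · rw [← map_inv]; exact hP y hy q⁻¹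
    · have h4 : setting.t⁻¹ = setting.t ^ 4 :=
        inv_eq_of_mul_eq_one_right (by rw [← pow_succ']; exact setting.t5)
      rw [h4]; exact F.U_mul_t y hy 4

/-- The coset of a point. -/
noncomputable def toCoset : F.C.Pts → Cfsg.Spor.HN ⧸ toHN.range := fun x =>
  Quotient.liftOn' x.2 (fun q => ((toHN q * (F.g x.1.1)⁻¹ : Cfsg.Spor.HN) : Cfsg.Spor.HN ⧸ toHN.range))
    (fun q q' h => by
      rw [QuotientGroup.leftRel_apply] at h
      rw [QuotientGroup.eq]
      simpa [map_mul, mul_assoc] using F.stab_le x.1 h)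

theorem toCoset_surjective : Function.Surjective F.toCoset := by
  intro c
  induction c using QuotientGroup.induction_on with
  | H z =>
    obtain ⟨i, p, h⟩ := F.U_top z⁻¹
    refine ⟨F.C.pt i p, ?_⟩
    change ((toHN p⁻¹ * (F.g i.1)⁻¹ : Cfsg.Spor.HN) : Cfsg.Spor.HN ⧸ toHN.range) = _
    rw [QuotientGroup.eq]
    simpa [mul_assoc] using toHN.range.inv_mem h

/-- The left action of `P` on points. -/
noncomputable def ptsHom : PresentedGroup pres →* Equiv.Perm F.C.Pts where
  toFun p :=
    { toFun := F.C.right p⁻¹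
      invFun := F.C.right p
      left_inv := fun x => by
        obtain ⟨i, r, rfl⟩ := F.C.pt_surjective x
        simp [Cert.right_pt, mul_assoc]
      right_inv := fun x => by
        obtain ⟨i, r, rfl⟩ := F.C.pt_surjective x
        simp [Cert.right_pt, mul_assoc] }
  map_one' := by
    ext1 x
    obtain ⟨i, r, rfl⟩ := F.C.pt_surjective x
    simp [Cert.right_pt]
  map_mul' p q := by
    ext1 x
    simp [Equiv.Perm.mul_apply, Cert.right_right, mul_inv_rev]

theorem compose (a b : ℕ) (x : F.C.Pts) : F.C.tmap b (F.C.tmap a x) = F.C.tmap (a + b) x :=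
  F.C.tmap_tmap (Cert.comp_of_checks F.comps_ok) a b x

/-- The action of `t` on points. -/
noncomputable def tPerm : Equiv.Perm F.C.Pts where
  toFun := F.C.tmap 4
  invFun := F.C.tmap 1
  left_inv x := by rw [compose, F.C.tmap_congr (b := 0) (by norm_num), Cert.tmap_zero]
  right_inv x := by rw [compose, F.C.tmap_congr (b := 0) (by norm_num), Cert.tmap_zero]

theorem tPerm_pow (n : ℕ) (x : F.C.Pts) : (F.tPerm ^ n) x = F.C.tmap (4 * n) x := by
  induction n generalizing x with
  | zero => simp [Cert.tmap_zero]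
  | succ n ih =>
    rw [pow_succ, Equiv.Perm.mul_apply, ih, show F.tPerm x = F.C.tmap 4 x from rfl, compose]
    ring_nf

/-- The images of the generators. -/
noncomputable def genPerm : Cfsg.Spor.HN.Gen → Equiv.Perm F.C.Pts
  | .x => F.ptsHom (PresentedGroup.of 0)
  | .y => F.ptsHom (PresentedGroup.of 1)
  | .z => F.ptsHom (PresentedGroup.of 2)
  | .t => F.tPerm

theorem genPerm_rels : ∀ r ∈ hnRels, FreeGroup.lift F.genPerm r = 1 := by
  have hP : ∀ l ∈ relWords,
      FreeGroup.lift F.genPerm (FreeGroup.map xyz (FreeGroup.mk (l.map (stdSym 3)))) = 1 := by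
    intro l hl
    have h : (FreeGroup.lift F.genPerm).comp (FreeGroup.map xyz) =
        F.ptsHom.comp (PresentedGroup.mk pres) :=
      FreeGroup.ext_hom _ _ fun i => by
        fin_cases i <;> simp [xyz, genPerm, PresentedGroup.of]
    rw [← MonoidHom.comp_apply, h, MonoidHom.comp_apply,
      show PresentedGroup.mk pres (FreeGroup.mk (l.map (stdSym 3))) = 1 from
        PresentedGroup.one_of_mem (List.mem_map.2 ⟨l, hl, rfl⟩), map_one]
  rintro r (⟨x, hx, -⟩ | hr)
  · simp [Cfsg.Spor.coxNodes, Cfsg.Spor.HN.edges] at hx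
  have hlast : r ∈ relWords.map (fun l => FreeGroup.map xyz (FreeGroup.mk (l.map (stdSym 3)))) ++
      [Cfsg.Spor.HN.t ^ 5, (Cfsg.Spor.HN.x⁻¹ * Cfsg.Spor.HN.t * Cfsg.Spor.HN.x) * Cfsg.Spor.HN.t ^ 2,
       Cfsg.Spor.HN.t⁻¹ * Cfsg.Spor.HN.y⁻¹ * Cfsg.Spor.HN.t * Cfsg.Spor.HN.y,
       (Cfsg.Spor.HN.z * Cfsg.Spor.HN.t) ^ 3] := by
    have he : relWords.map (fun l => FreeGroup.map xyz (FreeGroup.mk (l.map (stdSym 3)))) ++
        [Cfsg.Spor.HN.t ^ 5, (Cfsg.Spor.HN.x⁻¹ * Cfsg.Spor.HN.t * Cfsg.Spor.HN.x) * Cfsg.Spor.HN.t ^ 2,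
         Cfsg.Spor.HN.t⁻¹ * Cfsg.Spor.HN.y⁻¹ * Cfsg.Spor.HN.t * Cfsg.Spor.HN.y,
         (Cfsg.Spor.HN.z * Cfsg.Spor.HN.t) ^ 3] = Cfsg.Spor.HN.extra := by decide +kernel
    rw [he]; exact hr
  rcases List.mem_append.1 hlast with h | h
  · obtain ⟨l, hl, rfl⟩ := List.mem_map.1 h
    exact hP l hl
  have hR : ∀ (i : Fin 3) (x : F.C.Pts), F.ptsHom (PresentedGroup.of i) x =
      F.C.right (val [2 * i.val + 1]) x := fun i x => by
    have : val [2 * i.val + 1] = (PresentedGroup.of i : PresentedGroup pres)⁻¹ := by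
      rw [← val_gen, ← val_flip (by omega)]
      congr
      simp [ExactCover.flip]
    rw [this]; rfl
  have hzz : val [5] = val [4] := val_eq_of_wordEq (by decide +kernel)
  simp only [List.mem_cons, List.not_mem_nil, or_false] at h
  rcases h with rfl | rfl | rfl | rfl
  · apply Equiv.ext; intro x
    simp only [map_pow, FreeGroup.lift_apply_of, genPerm, tPerm_pow, Equiv.Perm.one_apply]
    rw [F.C.tmap_congr (b := 0) (by norm_num), Cert.tmap_zero]
  · apply Equiv.ext; intro x
    simp only [map_mul, map_pow, map_inv, FreeGroup.lift_apply_of, genPerm, Equiv.Perm.mul_apply,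
      tPerm_pow, Equiv.Perm.one_apply]
    rw [hR 0, show 2 * (0 : Fin 3).val + 1 = 1 from rfl, show F.tPerm (F.C.right (val [1]) (F.C.tmap (4 * 2) x)) =
      F.C.tmap 4 (F.C.right (val [1]) (F.C.tmap (4 * 2) x)) from rfl,
      F.C.tmap_right (e := 2) (by decide) (by decide), compose,
      F.C.tmap_congr (b := 0) (by norm_num), Cert.tmap_zero,
      Equiv.Perm.inv_def, Equiv.symm_apply_eq, hR 0]
    rfl
  · apply Equiv.ext; intro x
    simp only [map_mul, map_inv, FreeGroup.lift_apply_of, genPerm, Equiv.Perm.mul_apply,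
      Equiv.Perm.one_apply]
    rw [hR 1, show 2 * (1 : Fin 3).val + 1 = 3 from rfl, show F.tPerm (F.C.right (val [3]) x) = F.C.tmap 4 (F.C.right (val [3]) x) from rfl,
      F.C.tmap_right (e := 4) (by decide) (by decide), ← (show ∀ y, F.ptsHom (PresentedGroup.of 1) y = F.C.right (val [3]) y from hR 1),
      Equiv.Perm.inv_def, Equiv.Perm.inv_def, Equiv.symm_apply_apply, Equiv.symm_apply_eq]
    rfl
  · apply Equiv.ext; intro x
    have hz : ∀ y, F.ptsHom (PresentedGroup.of 2) y = F.C.right (val [4]) y := fun y => by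
      rw [hR 2, ← hzz]; rfl
    simp only [map_mul, map_pow, FreeGroup.lift_apply_of, genPerm, pow_succ, pow_zero, one_mul,
      Equiv.Perm.mul_apply, Equiv.Perm.one_apply, hz]
    exact Cert.rel_of_checks F.cent_ok F.rels_ok x

/-- The action of the presented group on points. -/
noncomputable def hom : Cfsg.Spor.HN →* Equiv.Perm F.C.Pts := PresentedGroup.toGroup F.genPerm_rels

theorem hom_toHN (p : PresentedGroup pres) : F.hom (toHN p) = F.ptsHom p := by
  have : F.hom.comp toHN = F.ptsHom := PresentedGroup.ext fun i => by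
    rw [MonoidHom.comp_apply, toHN_of, hom, PresentedGroup.toGroup.of]
    fin_cases i <;> rfl
  rw [← this]; rfl

theorem hom_t : F.hom setting.t = F.tPerm := PresentedGroup.toGroup.of F.genPerm_rels

/-- The base point. -/
noncomputable def base : F.C.Pts := F.C.pt ⟨0, by rw [F.len]; omega⟩ 1

theorem stab_zero : stab F.C.nds 0 = ⊤ := by
  rw [eq_top_iff, ← PresentedGroup.closure_range_of pres, Subgroup.closure_le]
  rintro _ ⟨i, rfl⟩
  apply Subgroup.subset_closure
  refine ⟨[2 * i.val], ?_, val_gen i⟩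
  rw [of_decide_eq_true F.base_ok]
  fin_cases i <;> decide

theorem base_fix (p : PresentedGroup pres) : F.hom (toHN p) F.base = F.base := by
  rw [hom_toHN]
  change F.C.right p⁻¹ F.base = F.base
  rw [base, Cert.right_pt, Cert.pt_eq_iff, F.stab_zero]
  trivial

theorem point_reached : ∀ (i : ℕ) (hi : i < F.C.nds.length),
    F.hom (F.g i)⁻¹ F.base = F.C.pt ⟨i, hi⟩ 1 := by
  intro i
  induction i using Nat.strong_induction_on with
  | _ i ih =>
    intro hi
    match i, hi with
    | 0, hi => simp [g, nodeRep, base]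
    | k + 1, hi =>
      have hk : k < F.nodes.length := by rw [F.len] at hi; omega
      obtain ⟨h1, hi', hj, e⟩ := F.tree_facts hk
      rw [g, nodeRep, dif_pos h1, mul_inv_rev, mul_inv_rev, map_mul, map_mul, Equiv.Perm.mul_apply,
        Equiv.Perm.mul_apply, ← g, ih _ (Nat.lt_succ_of_le h1) hi', Setting.el,
        show setting.π = toHN from rfl, ← map_inv, hom_toHN]
      set w := (F.nodes.getD k ⟨0, [], 0, 0, []⟩).w
      set a := (F.nodes.getD k ⟨0, [], 0, 0, []⟩).a
      rw [show F.ptsHom (val w)⁻¹ (F.C.pt _ 1) = F.C.right ((val w)⁻¹)⁻¹ (F.C.pt _ 1) from rfl,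
        Cert.right_pt, inv_inv, one_mul]
      have ht : (setting.t ^ a)⁻¹ = setting.t ^ (4 * a) := by
        refine inv_eq_of_mul_eq_one_right ?_
        rw [← pow_add, ← setting.tpow_mod, show (a + 4 * a) % 5 = 0 by omega, pow_zero]
      rw [ht, map_pow, hom_t, tPerm_pow, F.C.tmap_congr (b := a) (by omega)]
      exact e

theorem hom_transitive (x : F.C.Pts) : ∃ z, F.hom z F.base = x := by
  obtain ⟨i, p, rfl⟩ := F.C.pt_surjective x
  refine ⟨toHN p⁻¹ * (F.g i.1)⁻¹, ?_⟩
  rw [map_mul, Equiv.Perm.mul_apply, F.point_reached i.1 i.2, hom_toHN]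
  change F.C.right p⁻¹⁻¹ (F.C.pt i 1) = _
  rw [Cert.right_pt, inv_inv, one_mul]

/-- Cosets and points correspond, so the stabiliser of the base point is the image of `P`. -/
theorem exact : toHN.range.index = Nat.card F.C.Pts ∧
    ∀ z, z ∈ toHN.range ↔ F.hom z F.base = F.base := by
  haveI : Finite F.C.Pts := inferInstance
  haveI : Finite (Cfsg.Spor.HN ⧸ toHN.range) := Finite.of_surjective _ F.toCoset_surjective
  refine eq_stabilizer F.hom F.base (fun h hh => by obtain ⟨p, rfl⟩ := hh; exact F.base_fix p)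
    F.hom_transitive ?_ ?_
  · exact Nat.card_le_card_of_surjective _ F.toCoset_surjective
  · rw [Subgroup.index_ne_zero_iff_finite]; infer_instance

end FullCert

end Cfsg.Agent.Lib.CosetEnum.HNP
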