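import Cfsg.Agent.Lib.CosetEnum.HNP.X4

/-! The generator `x` inverts the word `c = [x, y⁻² x y x y x y⁻²]`: deduced in the group on `x, y`. -/

set_option autoImplicit false
set_option maxRecDepth 20000
set_option Elab.async false

namespace Cfsg.Agent.Lib.CosetEnum.HNP.Inv

open Cfsg.Agent.Lib.CosetEnum Cfsg.Agent.Lib.ExactCover

/-- The relator words. -/
def relWordsQ : List (List ℕ) := [[2, 2, 2, 2, 2, 2],
    [0, 0, 2, 0, 0, 3],
    [1, 3, 0, 2, 1, 3, 0, 2, 1, 3, 0, 2],
    [1, 2, 2, 0, 2, 2, 2, 1, 2, 2, 0, 2, 2, 2, 1, 2, 2, 0, 2, 2, 2],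
    [0, 2, 0, 2, 0, 2, 0, 2, 0, 2, 0, 2, 0, 2, 0, 2],
    [0, 2, 0, 2, 2, 2, 0, 2, 0, 2, 2, 2, 0, 2, 0, 2, 2, 2, 0, 2, 0, 2, 2, 2],
    [0, 0, 0, 0]]

/-- Letters and relator words. -/
noncomputable def lettersQ : Letters (Fin 2) :=
  stdLetters 2 0x410c01
    [[],
    [2, 2, 2, 2, 2, 2],
    [0, 0, 2, 0, 0, 3],
    [1, 3, 0, 2, 1, 3, 0, 2, 1, 3, 0, 2],
    [1, 2, 2, 0, 2, 2, 2, 1, 2, 2, 0, 2, 2, 2, 1, 2, 2, 0, 2, 2, 2],
    [0, 2, 0, 2, 0, 2, 0, 2, 0, 2, 0, 2, 0, 2, 0, 2],
    [0, 2, 0, 2, 2, 2, 0, 2, 0, 2, 2, 2, 0, 2, 0, 2, 2, 2, 0, 2, 0, 2, 2, 2],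
    [0, 0, 0, 0],
    [0, 1],
    [1, 0],
    [2, 3],
    [3, 2]] relWordsQ

theorem lettersQ_col : ∀ a, lettersQ.col a < lettersQ.K ∧ lettersQ.sym (lettersQ.col a) = (a, true) := by
  decide +kernel

theorem lettersQ_ok : lettersQ.OK := by
  refine ⟨by decide +kernel, by decide +kernel, ?_, ?_, ?_⟩ <;> decide +kernel

/-- All facts. -/
noncomputable def facts : PTree :=
  .leaf 0x190000001a000000000000001700000015000000000000001500000016000000000000001100000012000000000000000d0000000e000000000000000b00000009000000000000000a0000000b00000000000000080000000500000000000000060000000800000000000000020000000400000000000000240000002300000003000000230000002200000003000000220000002100000000000000210000002000000002000000200000001f000000000000001f0000001e000000020000001e0000001d000000000000001d0000001c000000030000001c0000001b000000030000001b0000001a000000000000001a0000001800000002000000190000001500000002000000180000001400000001000000170000001400000000000000160000001400000002000000150000001300000002000000140000001200000001000000130000001000000000000000120000001000000003000000110000000f00000003000000100000000e000000010000000f0000000c000000000000000e0000000c000000030000000d0000000a000000030000000c00000009000000020000000b00000008000000010000000a00000007000000000000000900000007000000020000000800000004000000020000000700000003000000010000000600000003000000000000000500000003000000000000000400000001000000020000000300000000000000010000000200000000000000000000000100000000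

/-- Packed words. -/
noncomputable def words : PTree :=
  .node 6
  (.node 3
  (.node 1
  (.leaf 0x1)
  (.node 2
  (.leaf 0x44210842)
  (.leaf 0x40010003)))
  (.node 4
  (.leaf 0x108c0208c0208c02)
  (.node 5
  (.leaf 0x211080210822100421044200842)
  (.leaf 0x100802008020080200802))))
  (.node 9
  (.node 7
  (.leaf 0x1008021080200842008021080200842)
  (.node 8
  (.leaf 0x100000)
  (.leaf 0x401)))
  (.node 10
  (.leaf 0x420)
  (.node 11
  (.leaf 0x443)
  (.leaf 0x462))))

/-- The certificate data. -/
noncomputable def data : Data :=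
  ⟨4, 0x410c01, facts, words, 12, 12⟩

/-- Steps. -/
noncomputable def part0 : List (ℕ × ℕ) :=
  [(10, 0x31000000320000002e0000002d0000005800000001000000040000000200000015000000560000002a0000002d00000003000000000000000700000015000000290000002a000000260000002200000025000000010000000400000002000000130000001e0000001a0000001d000000210000002200000004000000010000000200000010000000160000001000000013000000190000001a0000000400000001000000020000000c00000010000000130000004e0000000000000003000000070000000b0000000d00000013000000140000004c0000000800000002000000030000000200000003000000080000000b0000004a00000000000000030000000700000008000000050000000b0000000e00000006000000000000000200000003000000020000000000000000000000030000000600000002000000010000000700000001)]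

theorem part0_ok : chunks data part0 36 = true ∧ 46 = 36 + chunksLen part0 :=
  ⟨by decide +kernel, by decide +kernel⟩

theorem defs_ok : defsOK data 36 = true := by decide +kernel

/-- The relation on `x, y`. -/
theorem eq_one_Q : (([1, 1, 2, 2, 1, 3, 1, 3, 1, 2, 2, 0, 3, 3, 0, 2, 0, 2, 0, 3, 3, 0, 1, 2, 2, 1, 3, 1, 3, 1, 2, 2, 0, 3, 3, 0, 2, 0, 2, 0, 3, 3] : List ℕ).map (lettersQ.phi (relSet 2 relWordsQ))).prod = 1 :=
  prod_eq_one_of_walk lettersQ (relSet 2 relWordsQ) (fun _ h => h) lettersQ_ok lettersQ_col data 36 46 rfl rfl rfl rfl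
    (by decide +kernel)
    (fun φ H hV => chunks_sound hV part0 part0_ok.1 part0_ok.2 fun i hi => good_defs defs_ok hi)
    [1, 1, 2, 2, 1, 3, 1, 3, 1, 2, 2, 0, 3, 3, 0, 2, 0, 2, 0, 3, 3, 0, 1, 2, 2, 1, 3, 1, 3, 1, 2, 2, 0, 3, 3, 0, 2, 0, 2, 0, 3, 3] (by decide +kernel) 42 0x50000000d0000001300000019000000520000001f0000002500000029000000310000005a0000003500000037000000390000003b0000003d0000003f00000041000000430000004500000047000000460000004400000042000000400000003e0000003c0000003a000000380000003600000034000000320000002e0000002600000055000000200000001c0000001600000051000000140000000e0000004900000002 (by decide +kernel)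

theorem relWordsQ_cases : ∀ l ∈ relWordsQ, (∀ g ∈ l, g < 4) ∧ (l ∈ letters.RL ∨ l = [0, 0, 0, 0]) := by
  decide +kernel

/-- The relation in the three generator group. -/
theorem eq_one : (([1, 1, 2, 2, 1, 3, 1, 3, 1, 2, 2, 0, 3, 3, 0, 2, 0, 2, 0, 3, 3, 0, 1, 2, 2, 1, 3, 1, 3, 1, 2, 2, 0, 3, 3, 0, 2, 0, 2, 0, 3, 3] : List ℕ).map (letters.phi pres)).prod = 1 := by
  have hlift : ∀ r ∈ relSet 2 relWordsQ,
      FreeGroup.lift (fun i : Fin 2 => (PresentedGroup.of (Fin.castSucc i) : PresentedGroup pres)) r = 1 := by
    rintro r hr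
    obtain ⟨l, hl, rfl⟩ := List.mem_map.1 hr
    obtain ⟨hlt, h⟩ := relWordsQ_cases l hl
    rw [show FreeGroup.lift _ (FreeGroup.mk (l.map (stdSym 2))) = (l.map (letters.phi pres)).prod from
      lift_eq l hlt]
    rcases h with h | rfl
    · exact Letters.prod_rel rels_mem letters_ok letters_col h
    · exact X4.eq_one
  have h := congrArg (PresentedGroup.toGroup hlift) eq_one_Q
  rw [map_one, Letters.prod_phi _ (by decide +kernel)] at h
  rw [← lift_eq _ (by decide +kernel)]
  exact h
where
  lift_eq (l : List ℕ) (hlt : ∀ g ∈ l, g < 4) :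
      FreeGroup.lift (fun i : Fin 2 => (PresentedGroup.of (Fin.castSucc i) : PresentedGroup pres))
        (FreeGroup.mk (l.map (stdSym 2))) = (l.map (letters.phi pres)).prod := by
    have := map_lift_word (n := 2)
      (fun i : Fin 2 => (PresentedGroup.of (Fin.castSucc i) : PresentedGroup pres)) (MonoidHom.id _)
      (letters.phi pres) ?_ l hlt
    · exact this
    refine forall_lt_two_mul (fun i => ⟨?_, ?_⟩)
    · rw [MonoidHom.id_apply, lift_word_pos, ← Letters.phi_col letters_col]
      rfl
    · rw [MonoidHom.id_apply, lift_word_neg, ← Letters.phi_col letters_col]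
      have h3 : ∀ g < 6, invL letters.IV g = if g % 2 = 0 then g + 1 else g - 1 := by decide +kernel
      have hb : 2 * i.val < 6 := by omega
      have := (Letters.phi_inv rels_mem letters_ok (g := 2 * i.val) (le_of_lt hb)).2
      rw [h3 _ hb, if_pos (by omega)] at this
      rw [this]
      rfl

end Cfsg.Agent.Lib.CosetEnum.HNP.Inv
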