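import Cfsg.Agent.Lib.CosetEnum.HNP.Table
import Cfsg.Agent.Lib.CosetEnum.HNP.B352
import Cfsg.Agent.Lib.CosetEnum.HNP.BQ
import Cfsg.Agent.Lib.CosetEnum.HNP.BQ2
import Cfsg.Agent.Lib.CosetEnum.HNP.WSlp
import Cfsg.Agent.Lib.CosetEnum.HNP.Cube
import Cfsg.Agent.Lib.CosetEnum.Simple
import Cfsg.Agent.Lib.CosetEnum.BasePts

/-!
The group `P` presented on `x, y, z` by the relators of the presented Harada-Norton group not involving
`t` has order 177408000 and acts faithfully on 1408 points.

The coset bounds first give at most three times as much, so the kernel of the action has at most three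
elements. The word `c = [x, y⁻² x y x y x y⁻²]` lies in the kernel, `x` inverts it and centralises the
kernel (the automorphism group of the kernel is abelian and the relators force the image of `x` in it
to be trivial), and `c³` lies in a subgroup on which the action is faithful. So `c = 1`, and with this
relation the bounds are exact.
-/

set_option autoImplicit false
set_option maxRecDepth 20000

namespace Cfsg.Agent.Lib.CosetEnum.HNP

open Cfsg.Agent.Lib.CosetEnum Cfsg.Agent.Lib.ExactCover

/-- The value of a word in `P`. -/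
noncomputable abbrev val (l : List ℕ) : PresentedGroup pres := (l.map (letters.phi pres)).prod

theorem act_word (l : List ℕ) (hl : ∀ g ∈ l, g < 6) (i : Fin 1408) :
    ((act (val l))⁻¹ i).1 = scan 6 table l i.1 := by
  induction l generalizing i with
  | nil => simp [val, scan]
  | cons g l ih =>
    rw [val, List.map_cons, List.prod_cons, map_mul, mul_inv_rev, Equiv.Perm.mul_apply,
      ih (fun x hx => hl x (List.mem_cons_of_mem _ hx)), act_phi g (hl g List.mem_cons_self)]
    change scan 6 table l (get32 table (i.1 * 6 + g)) =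
      force (get32 table (Nat.add (Nat.mul i.1 6) g)) (scan 6 table l)
    rw [force_eq]
    rfl

theorem subOf_xy : subOf letters pres [[0], [2]] =
    subOf letters pres (([0, 1, 2, 3] : List ℕ).map fun g => [g]) := by
  apply le_antisymm
  · refine Subgroup.closure_mono ?_
    rintro x ⟨l, hl, rfl⟩
    exact ⟨l, by revert l; decide, rfl⟩
  · refine (Subgroup.closure_le _).2 ?_
    rintro x ⟨l, hl, rfl⟩
    have h0 : val [0] ∈ subOf letters pres [[0], [2]] := Subgroup.subset_closure ⟨_, by simp, rfl⟩
    have h2 : val [2] ∈ subOf letters pres [[0], [2]] := Subgroup.subset_closure ⟨_, by simp, rfl⟩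
    have e0 : invL letters.IV 0 = 1 := by decide +kernel
    have e2 : invL letters.IV 2 = 3 := by decide +kernel
    have i0 := (Letters.phi_inv rels_mem letters_ok (g := 0) (Nat.zero_le _)).2
    have i2 := (Letters.phi_inv rels_mem letters_ok (g := 2) (by decide +kernel : 2 ≤ letters.K)).2
    rw [e0] at i0
    rw [e2] at i2
    simp only [List.map_cons, List.map_nil, List.mem_cons, List.not_mem_nil, or_false] at hl
    rcases hl with rfl | rfl | rfl | rfl
    · exact h0
    · simpa [val, i0] using Subgroup.inv_mem _ h0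
    · exact h2
    · simpa [val, i2] using Subgroup.inv_mem _ h2

theorem card_le_of_xy (B : ℕ)
    (h : Nat.card (subOf letters pres (([0, 1, 2, 3] : List ℕ).map fun g => [g])) ≠ 0 ∧
      Nat.card (subOf letters pres (([0, 1, 2, 3] : List ℕ).map fun g => [g])) ≤ B) :
    Nat.card (PresentedGroup pres) ≠ 0 ∧ Nat.card (PresentedGroup pres) ≤ 352 * B := by
  rw [← subOf_xy] at h
  have h' := B352.bound B h
  have htop : subOf letters pres (([0, 1, 2, 3, 4, 5] : List ℕ).map fun g => [g]) = ⊤ :=
    subOf_range_eq_top letters pres letters_col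
  rwa [htop, Subgroup.card_top] at h'

theorem card_weak :
    Nat.card (PresentedGroup pres) ≠ 0 ∧ Nat.card (PresentedGroup pres) ≤ 532224000 := by
  exact card_le_of_xy _ BQ.bound

instance finite : Finite (PresentedGroup pres) := Nat.finite_of_card_ne_zero card_weak.1

theorem card_ker_le : Nat.card act.ker ≤ 3 := by
  have h := act.ker.card_mul_index
  rw [Subgroup.index_ker] at h
  have h1 := act_card_ge
  have h2 := card_weak.2
  by_contra hc
  have : 4 * 177408000 ≤ Nat.card act.ker * Nat.card act.range := Nat.mul_le_mul (by omega) h1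
  omega

/-- The word `c`. -/
def cWord : List ℕ := [1, 2, 2, 1, 3, 1, 3, 1, 2, 2, 0, 3, 3, 0, 2, 0, 2, 0, 3, 3]

theorem c_mem_ker : val cWord ∈ act.ker := by
  have hc : allBelow 1408 (fun i => Nat.beq (scan 6 table cWord i) i) = true := by decide +kernel
  rw [MonoidHom.mem_ker, ← inv_eq_one]
  ext i
  rw [act_word _ (by decide +kernel)]
  simpa using (allBelow_iff.1 hc i.1 i.2)

theorem mulAut_comm_of_card_le {G : Type*} [Group G] [Finite G] (h : Nat.card G ≤ 3) :
    (∀ f g : MulAut G, f * g = g * f) ∧ ∀ f : MulAut G, f * f = 1 := by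
  have hpos : 0 < Nat.card G := Nat.card_pos
  haveI : IsCyclic G := by
    rcases (by omega : Nat.card G = 1 ∨ Nat.card G = 2 ∨ Nat.card G = 3) with hc | hc | hc
    · haveI := (Nat.card_eq_one_iff_unique.1 hc).1
      exact isCyclic_of_subsingleton
    · haveI : Fact (Nat.Prime 2) := ⟨Nat.prime_two⟩
      exact isCyclic_of_prime_card hc
    · haveI : Fact (Nat.Prime 3) := ⟨Nat.prime_three⟩
      exact isCyclic_of_prime_card hc
  have hm : ∀ f : MulAut G, ∃ m : ℤ, ∀ a, f a = a ^ m := fun f =>
    MonoidHom.map_cyclic f.toMonoidHom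
  constructor
  · intro f g
    obtain ⟨m, hf⟩ := hm f
    obtain ⟨n, hg⟩ := hm g
    ext a
    simp only [MulAut.mul_apply, hf, hg, ← zpow_mul, mul_comm m n]
  · intro f
    obtain ⟨m, hf⟩ := hm f
    ext a
    simp only [MulAut.mul_apply, MulAut.one_apply]
    by_cases ha : a = 1
    · simp [ha]
    rw [hf, hf, ← zpow_mul]
    conv_rhs => rw [← zpow_one a]
    rw [zpow_eq_zpow_iff_modEq]
    have hord : orderOf a ≤ 3 := (orderOf_le_card).trans h
    have hord1 : orderOf a ≠ 1 := by simpa [orderOf_eq_one_iff] using ha
    have hord0 := orderOf_pos a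
    have hnd : ¬ (orderOf a : ℤ) ∣ m := fun hd => ha (by
      have hh : f a = 1 := by rw [hf, orderOf_dvd_iff_zpow_eq_one.1 hd]
      simpa using hh)
    rw [Int.dvd_iff_emod_eq_zero] at hnd
    rcases (by omega : orderOf a = 2 ∨ orderOf a = 3) with ho | ho <;> rw [ho] at hnd ⊢ <;>
      rw [Int.ModEq, Int.mul_emod]
    · have e : m % (2 : ℤ) = 1 := by push_cast at hnd; omega
      norm_num [e]
    · push_cast at hnd ⊢
      rcases (by omega : m % (3 : ℤ) = 1 ∨ m % (3 : ℤ) = 2) with e | e <;> norm_num [e]

theorem x_fixes_ker (k : act.ker) :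
    (MulAut.conjNormal : PresentedGroup pres →* MulAut act.ker) (val [0]) k = k := by
  let χ : PresentedGroup pres →* MulAut act.ker := MulAut.conjNormal
  obtain ⟨hcomm, hsq⟩ := mulAut_comm_of_card_le (G := act.ker) card_ker_le
  letI : CommGroup (MulAut act.ker) := { (inferInstance : Group (MulAut act.ker)) with mul_comm := hcomm }
  have hs : ∀ f g : MulAut act.ker, f * (f * g) = g := fun f g => by rw [← mul_assoc, hsq, one_mul]
  have hi : ∀ f : MulAut act.ker, f⁻¹ = f := fun f => inv_eq_of_mul_eq_one_right (hsq f)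
  have hw : ∀ l ∈ letters.RL, (l.map fun g => χ (letters.phi pres g)).prod = 1 := by
    intro l hl
    have := congrArg χ (Letters.prod_rel rels_mem letters_ok letters_col hl)
    rwa [map_list_prod, List.map_map, map_one] at this
  have hinv : ∀ g < 6, χ (letters.phi pres (invL letters.IV g)) = χ (letters.phi pres g) := by
    intro g hg
    rw [(Letters.phi_inv rels_mem letters_ok (g := g) hg.le).2, map_inv, hi]
  have h1 : χ (letters.phi pres 1) = χ (letters.phi pres 0) := by
    rw [← hinv 0 (by omega)]; congr 2
  have h3 : χ (letters.phi pres 3) = χ (letters.phi pres 2) := by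
    rw [← hinv 2 (by omega)]; congr 2
  have h5 : χ (letters.phi pres 5) = χ (letters.phi pres 4) := by
    rw [← hinv 4 (by omega)]; congr 2
  have hy := hw (relWords.getD 3 []) (by decide +kernel)
  simp only [relWords, List.getD_cons_succ, List.getD_cons_zero, List.map_cons, List.map_nil,
    List.prod_cons, List.prod_nil, h1, h3, h5, mul_one, mul_comm, mul_left_comm, hs, hsq] at hy
  have hx := hw (relWords.getD 9 []) (by decide +kernel)
  simp only [relWords, List.getD_cons_succ, List.getD_cons_zero, List.map_cons, List.map_nil,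
    List.prod_cons, List.prod_nil, h1, h3, h5, hy, mul_one, one_mul, mul_comm, mul_left_comm, hs,
    hsq] at hx
  change χ (val [0]) k = k
  simp [val, hx]

theorem cWord_cube : val cWord * val cWord * val cWord = 1 := by
  classical
  -- push the membership from the group on `x, y`
  have hlift : ∀ r ∈ relSet 2 Inv.relWordsQ,
      FreeGroup.lift (fun i : Fin 2 => (PresentedGroup.of (Fin.castSucc i) : PresentedGroup pres)) r = 1 := by
    rintro r hr
    obtain ⟨l, hl, rfl⟩ := List.mem_map.1 hr
    obtain ⟨hlt, h⟩ := Inv.relWordsQ_cases l hl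
    rw [Inv.eq_one.lift_eq l hlt]
    rcases h with h | rfl
    · exact Letters.prod_rel rels_mem letters_ok letters_col h
    · exact X4.eq_one
  let θ := PresentedGroup.toGroup hlift
  have hθ : ∀ l : List ℕ, (∀ g ∈ l, g < 4) →
      θ ((l.map (Inv.lettersQ.phi (relSet 2 Inv.relWordsQ))).prod) = val l := by
    intro l hl
    rw [Letters.prod_phi l hl]
    exact Inv.eq_one.lift_eq l hl
  set W := subOf letters pres ([[2], [1, 2, 2, 2, 0]].map (embWord [0, 1, 2, 3])) with hW
  have hmem : val cWord * val cWord * val cWord ∈ W := by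
    have h := Subgroup.mem_map_of_mem θ Cube.mem_Q
    rw [hθ _ (by decide +kernel), subOf, MonoidHom.map_closure] at h
    have e : val cWord * val cWord * val cWord = val (cWord ++ cWord ++ cWord) := by simp [val, mul_assoc]
    rw [e]
    refine (Subgroup.closure_mono ?_) h
    rintro _ ⟨_, ⟨l, hl, rfl⟩, rfl⟩
    refine ⟨embWord [0, 1, 2, 3] l, List.mem_map_of_mem hl, ?_⟩
    rw [hθ l (by revert l; decide)]
    congr 2
    revert l; decide
  have hW120 := W120.bound
  rw [← hW] at hW120
  have hgen : ∀ g, g < 4 → val (W120.img.getD g []) ∈ W := by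
    intro g hg
    have h0 : val [2] ∈ W := Subgroup.subset_closure ⟨_, by decide, rfl⟩
    have h1 : val [1, 2, 2, 2, 0] ∈ W := Subgroup.subset_closure ⟨_, by decide, rfl⟩
    have e0 : invL letters.IV 0 = 1 := by decide +kernel
    have e2 : invL letters.IV 2 = 3 := by decide +kernel
    have i0 := (Letters.phi_inv rels_mem letters_ok (g := 0) (Nat.zero_le _)).2
    have i2 := (Letters.phi_inv rels_mem letters_ok (g := 2) (by decide +kernel : 2 ≤ letters.K)).2
    rw [e0] at i0
    rw [e2] at i2
    interval_cases g
    · exact h0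
    · simpa [val, W120.img, i2] using W.inv_mem h0
    · exact h1
    · simpa [val, W120.img, i0, i2, mul_assoc] using W.inv_mem h1
  let φW : ℕ → W := fun g => if hg : g < 4 then ⟨_, hgen g hg⟩ else 1
  have hge : 120 ≤ Nat.card (act.comp W.subtype).range := by
    refine WSlp.card_ge (act.comp W.subtype) φW ?_
    intro g hg i
    have hg4 : g < 4 := hg
    simp only [φW, dif_pos hg4, MonoidHom.comp_apply, Subgroup.subtype_apply]
    rw [act_word _ (by revert g; decide)]
    have hc : allBelow 1408 (fun i => allBelow 4 fun g =>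
        Nat.beq (scan 6 table (W120.img.getD g []) i) (get32 WAct.table (Nat.add (Nat.mul i 4) g))) = true := by
      decide +kernel
    simpa [WAct.K] using allBelow_iff.1 (allBelow_iff.1 hc i.1 i.2) g hg4
  haveI : Finite W := Nat.finite_of_card_ne_zero hW120.1
  have hbij : Function.Bijective (act.comp W.subtype).rangeRestrict :=
    (Nat.bijective_iff_surjective_and_card _).2 ⟨MonoidHom.rangeRestrict_surjective _, by
      have := Nat.card_le_card_of_surjective _ (act.comp W.subtype).rangeRestrict_surjective
      omega⟩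
  have hker : act (val cWord * val cWord * val cWord) = 1 := by
    have := MonoidHom.mem_ker.1 c_mem_ker
    simp [map_mul, this]
  have := hbij.1 (a₁ := ⟨_, hmem⟩) (a₂ := 1) (Subtype.ext (by
    simpa only [MonoidHom.coe_rangeRestrict, MonoidHom.comp_apply, Subgroup.subtype_apply,
      Subgroup.coe_one, map_one] using hker))
  exact congrArg Subtype.val this

theorem cWord_eq_one : val cWord = 1 := by
  have hcube := cWord_cube
  have hfix := congrArg Subtype.val (x_fixes_ker ⟨_, c_mem_ker⟩)
  rw [MulAut.conjNormal_apply] at hfix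
  have hcx : val [0] * val cWord = val cWord * val [0] := by
    have := congrArg (· * val [0]) hfix
    simpa [mul_assoc] using this
  have hinv := Inv.eq_one
  have e : (([1, 1, 2, 2, 1, 3, 1, 3, 1, 2, 2, 0, 3, 3, 0, 2, 0, 2, 0, 3, 3, 0, 1, 2, 2, 1, 3, 1, 3, 1,
      2, 2, 0, 3, 3, 0, 2, 0, 2, 0, 3, 3] : List ℕ)) = [1] ++ cWord ++ [0] ++ cWord := rfl
  rw [e] at hinv
  have hx : val [1] = (val [0])⁻¹ := by
    have := (Letters.phi_inv rels_mem letters_ok (g := 0) (Nat.zero_le _)).2
    rw [show invL letters.IV 0 = 1 by decide +kernel] at this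
    simpa [val] using this
  have hinv' : val [1] * val cWord * val [0] * val cWord = 1 := by
    simpa [val, mul_assoc] using hinv
  rw [hx, mul_assoc (val [0])⁻¹, ← hcx, ← mul_assoc (val [0])⁻¹, inv_mul_cancel, one_mul] at hinv'
  rw [hinv', one_mul] at hcube
  exact hcube

theorem card_P : Nat.card (PresentedGroup pres) = 177408000 ∧ Function.Injective act := by
  have hle : Nat.card (PresentedGroup pres) ≤ 177408000 :=
    (card_le_of_xy _ (BQ2.bound cWord_eq_one)).2
  have h1 := act_card_ge
  have h2 := Nat.card_le_card_of_surjective _ act.rangeRestrict_surjective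
  have hbij : Function.Bijective act.rangeRestrict :=
    (Nat.bijective_iff_surjective_and_card _).2 ⟨act.rangeRestrict_surjective, by omega⟩
  exact ⟨by omega, fun a b h => hbij.1 (Subtype.ext h)⟩

/-- The base of the stabiliser chain. -/
noncomputable def levels : List OrbLevel :=
  [HNPSlp.level0, HNPSlp.level1, HNPSlp.level2, HNPSlp.level3, HNPSlp.level4]

/-- Words are equal in `P` when they agree on the five base points. -/
theorem val_eq_of_base (u v : List ℕ) (hu : ∀ g ∈ u, g < 6) (hv : ∀ g ∈ v, g < 6)
    (h : ∀ b ∈ [0, 3, 7, 8, 16], scan 6 table u b = scan 6 table v b) : val u = val v := by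
  obtain ⟨hcard, hinj⟩ := card_P
  have hfix : Nat.card (fixList (N := 1408) act []) ≤ chainSize levels := by
    have he : chainSize levels = 177408000 := HNPSlp.size_eq
    rw [he, ← hcard]
    exact (Nat.card_le_card_of_injective (fun σ : fixList act [] => (⟨σ.1, σ.2.1⟩ : act.range))
      fun _ _ huv => Subtype.ext (congrArg (fun z : act.range => (z.1 : Equiv.Perm (Fin 1408))) huv)).trans
      (Nat.card_le_card_of_surjective _ act.rangeRestrict_surjective)
  have ht := tight_of_levels act (slp_sound act _ act_phi HNPSlp.slp_ok) levels [] HNPSlp.levels_ok hfix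
  have heq : act (val u) * (act (val v))⁻¹ = 1 := by
    refine Tight.eq_one act ht _ ⟨mul_mem ⟨_, rfl⟩ (inv_mem ⟨_, rfl⟩), by simp⟩ ?_
    intro l hl b hb
    have hbase : ∀ l ∈ levels, l.base ∈ [0, 3, 7, 8, 16] := by
      simp [levels, HNPSlp.level0, HNPSlp.level1, HNPSlp.level2, HNPSlp.level3, HNPSlp.level4]
    have hbb : b.1 ∈ [0, 3, 7, 8, 16] := hb ▸ hbase l hl
    have hk : (act (val v))⁻¹ b = (act (val u))⁻¹ b :=
      Fin.ext (by rw [act_word _ hu, act_word _ hv, h _ hbb])
    rw [Equiv.Perm.mul_apply, hk]
    simp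
  exact hinj (mul_inv_eq_one.1 heq)

end Cfsg.Agent.Lib.CosetEnum.HNP
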