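import Cfsg.Agent.Lib.CosetEnum.HNP.Graph

/-!
Walks along cosets: single steps by powers of `t`, and the checks that the steps compose and satisfy
`(z t)³ = 1` on every coset.
-/

set_option autoImplicit false

namespace Cfsg.Agent.Lib.CosetEnum.HNP

open Cfsg.Agent.Lib.CosetEnum Cfsg.Agent.Lib.ExactCover

/-- A step: the block, the word in `x, y` behind it and the exponent on the class. -/
abbrev StepCert := ℕ × List ℕ × ℕ

/-- Follow `t^a` from the coset of `u` at node `i`. -/
noncomputable def stepTo (B : BlockData) (nds : List NodeData) (i : ℕ) (u : List ℕ) (a : ℕ)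
    (s : StepCert) : Option (ℕ × List ℕ) :=
  let l := (nodeAt nds i).lab s.1
  let q := ((nodeAt nds i).cls l.1).target s.2.2
  bif Nat.blt i nds.length && Nat.blt s.1 352 && kWord s.2.1 && Nat.blt s.2.2 5 &&
      wordEq u (B.rep s.1 ++ s.2.1) && Nat.beq (s.2.2 * chiWord (l.2 ++ s.2.1) % 5) (a % 5) then
    some (q.1, q.2 ++ (l.2 ++ s.2.1))
  else none

/-- The coset of `u` at node `i` is the coset of `v` at node `j`. -/
noncomputable def sameCoset (nds : List NodeData) (i : ℕ) (u : List ℕ) (j : ℕ) (v : List ℕ)
    (l : List (ℕ × Bool)) : Bool :=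
  Nat.beq i j && okWord v && wordEq (genWord (nodeAt nds i).gens l) (u ++ invWord v)

/-- Exponents `e` and `f` compose on a class. -/
noncomputable def checkComp (B : BlockData) (nds : List NodeData) (i m e f : ℕ) (s : StepCert)
    (l : List (ℕ × Bool)) : Bool :=
  let c := (nodeAt nds i).cls m
  match stepTo B nds (c.target e).1 (c.target e).2 f s with
  | none => false
  | some p => sameCoset nds p.1 p.2 (c.tg (e + f)).1 (c.tg (e + f)).2 l

/-- The relation `(z t)³ = 1` at one coset. -/
noncomputable def checkRel (B : BlockData) (nds : List NodeData) (i : ℕ) (u : List ℕ)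
    (s : StepCert × StepCert × StepCert) (l : List (ℕ × Bool)) : Bool :=
  match stepTo B nds i u 4 s.1 with
  | none => false
  | some p =>
    match stepTo B nds p.1 (p.2 ++ [4]) 4 s.2.1 with
    | none => false
    | some q =>
      match stepTo B nds q.1 (q.2 ++ [4]) 4 s.2.2 with
      | none => false
      | some r => sameCoset nds r.1 (r.2 ++ [4]) i u l

/-- Data of the subgroup of `⟨x, y⟩` centralising `z` and `t`. -/
structure CentData where
  gens : List (List ℕ)
  reps : List (List ℕ)
  close : List (List (ℕ × List (ℕ × Bool)))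

/-- Check the cosets of the centralising subgroup. -/
noncomputable def CentData.check (D : CentData) : Bool :=
  (D.gens.all fun d => kWord d && Nat.beq (chiWord d) 1 && wordEq ([4] ++ d) (d ++ [4])) &&
  wordEq (D.reps.getD 0 []) [] && Nat.blt 0 D.reps.length &&
  ((List.range D.reps.length).all fun r => kWord (D.reps.getD r []) &&
    ((List.range 4).all fun g =>
      let q := (D.close.getD r []).getD g (0, [])
      Nat.blt q.1 D.reps.length &&
        wordEq ([g] ++ D.reps.getD r []) (D.reps.getD q.1 [] ++ genWord D.gens q.2)))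

namespace CentData

variable {D : CentData} (hD : D.check = true)
include hD

theorem genWord_facts (l : List (ℕ × Bool)) :
    ∀ B : BlockData, B.check = true →
    kWord (genWord D.gens l) = true ∧ chiWord (genWord D.gens l) = 1 ∧
      val [4] * val (genWord D.gens l) = val (genWord D.gens l) * val [4] := by
  intro B hB
  simp only [CentData.check, Bool.and_eq_true, List.all_eq_true, Nat.beq_eq] at hD
  obtain ⟨⟨⟨hg, -⟩, -⟩, -⟩ := hD
  induction l with
  | nil => exact ⟨rfl, rfl, by simp [genWord, val_nil]⟩
  | cons p l ih =>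
    have hp : kWord (D.gens.getD p.1 []) = true ∧ chiWord (D.gens.getD p.1 []) = 1 ∧
        val [4] * val (D.gens.getD p.1 []) = val (D.gens.getD p.1 []) * val [4] := by
      rcases lt_or_ge p.1 D.gens.length with h | h
      · rw [List.getD_eq_getElem _ _ h]
        obtain ⟨⟨h1, h2⟩, h3⟩ := hg _ (List.getElem_mem h)
        exact ⟨h1, h2, by rw [← val_append, ← val_append]; exact val_eq_of_wordEq h3⟩
      · rw [List.getD_eq_default _ _ h]
        exact ⟨rfl, rfl, by simp [val_nil]⟩
    set d := bif p.2 then invWord (D.gens.getD p.1 []) else D.gens.getD p.1 [] with hd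
    have hdf : kWord d = true ∧ chiWord d = 1 ∧ val [4] * val d = val d * val [4] := by
      rw [hd]
      cases p.2
      · exact hp
      · obtain ⟨h1, h2, h3⟩ := hp
        refine ⟨kWord_invWord h1, ?_, ?_⟩
        · have he := chiWord_congr hB (kWord_append (kWord_invWord h1) h1) (k' := []) rfl
            (by rw [val_append, val_invWord _ (kWord_okWord h1), inv_mul_cancel, val_nil])
          have ha := chiWord_append (invWord (D.gens.getD p.1 [])) (D.gens.getD p.1 [])
          rw [he, h2, mul_one] at ha
          rw [cond_true, ← chiWord_mod (invWord _)]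
          exact ha.symm.trans rfl
        · rw [cond_true, val_invWord _ (kWord_okWord h1)]
          exact (Commute.inv_right h3).eq
    have e : genWord D.gens (p :: l) = d ++ genWord D.gens l := by simp [genWord, hd]
    rw [e]
    refine ⟨kWord_append hdf.1 ih.1, ?_, ?_⟩
    · have := chiWord_append d (genWord D.gens l)
      rw [hdf.2.1, ih.2.1, chiWord_mod] at this
      simpa using this
    · rw [val_append, ← mul_assoc, hdf.2.2, mul_assoc, ih.2.2, ← mul_assoc]

theorem exists_rep : ∀ k : List ℕ, (∀ g ∈ k, g < 4) →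
    ∃ r < D.reps.length, ∃ l, val k = val (D.reps.getD r []) * val (genWord D.gens l) := by
  simp only [CentData.check, Bool.and_eq_true, List.all_eq_true, List.mem_range, Nat.blt_eq] at hD
  obtain ⟨⟨⟨-, h0⟩, hpos⟩, hr⟩ := hD
  intro k
  induction k with
  | nil => intro _; exact ⟨0, hpos, [], by rw [val_eq_of_wordEq h0]; simp [genWord, val_nil]⟩
  | cons g k ih =>
    intro hk
    obtain ⟨r, hlt, l, he⟩ := ih fun x hx => hk x (List.mem_cons_of_mem _ hx)
    obtain ⟨h1, h2⟩ := (hr r hlt).2 g (hk g List.mem_cons_self)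
    refine ⟨_, h1, ((D.close.getD r []).getD g (0, [])).2 ++ l, ?_⟩
    have h3 := val_eq_of_wordEq h2
    rw [val_append, val_append] at h3
    rw [show g :: k = [g] ++ k from rfl, val_append, he, ← mul_assoc, h3,
      show genWord D.gens (((D.close.getD r []).getD g (0, [])).2 ++ l) =
        genWord D.gens ((D.close.getD r []).getD g (0, [])).2 ++ genWord D.gens l by simp [genWord],
      val_append, mul_assoc]

end CentData

/-- The certificates of the relation at all classes of one node. -/
noncomputable def checkRels (B : BlockData) (nds : List NodeData) (D : CentData) (i m : ℕ)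
    (cs : List ((StepCert × StepCert × StepCert) × List (ℕ × Bool))) : Bool :=
  (List.range D.reps.length).all fun r =>
    let c := cs.getD r (((0, [], 0), (0, [], 0), (0, [], 0)), [])
    checkRel B nds i (((nodeAt nds i).cls m).w ++ D.reps.getD r []) c.1 c.2

/-- The certificates of composition at one class. -/
noncomputable def checkComps (B : BlockData) (nds : List NodeData) (i m : ℕ)
    (cs : List (List (StepCert × List (ℕ × Bool)))) : Bool :=
  (List.range 5).all fun e => (List.range 5).all fun f =>
    let c := (cs.getD e []).getD f ((0, [], 0), [])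
    checkComp B nds i m e f c.1 c.2

namespace Cert

variable {C : Cert}

theorem stepTo_sound {i a : ℕ} {u : List ℕ} {s : StepCert} {p : ℕ × List ℕ}
    (h : stepTo C.B C.nds i u a s = some p) :
    ∃ (hi : i < C.nds.length) (hj : p.1 < C.nds.length), okWord p.2 = true ∧
      C.tmap a (C.pt ⟨i, hi⟩ (val u)) = C.pt ⟨p.1, hj⟩ (val p.2) := by
  simp only [stepTo] at h
  cases hc : (Nat.blt i C.nds.length && Nat.blt s.1 352 && kWord s.2.1 && Nat.blt s.2.2 5 &&
      wordEq u (C.B.rep s.1 ++ s.2.1) &&
      Nat.beq (s.2.2 * chiWord (((nodeAt C.nds i).lab s.1).2 ++ s.2.1) % 5) (a % 5)) with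
  | false => simp [hc] at h
  | true =>
    simp only [hc, cond_true, Option.some.injEq] at h
    subst h
    simp only [Bool.and_eq_true, Nat.blt_eq, Nat.beq_eq] at hc
    obtain ⟨⟨⟨⟨⟨hi, hb⟩, hk⟩, he5⟩, hu⟩, he⟩ := hc
    have hok := C.ok i hi
    obtain ⟨hm, hK⟩ := lab_ok hok hb
    obtain ⟨hj, hokt⟩ := C.target_ok hi hm he5
    refine ⟨hi, hj, okWord_append hokt (okWord_append (kWord_okWord hK) (kWord_okWord hk)), ?_⟩
    obtain ⟨σ, hσ, hd⟩ := decomp hok hb
    let sp : C.Split (C.pt ⟨i, hi⟩ (val u)) := ⟨⟨i, hi⟩, _, hm, _, kWord_append hK hk, by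
      rw [pt_eq_iff, val_eq_of_wordEq hu, val_append, hd, val_append]
      convert hσ using 1
      group⟩
    rw [C.tmap_eq sp he]
    simp only [sp, tpt, NClass.tg, Nat.mod_eq_of_lt he5]
    rw [right_pt]
    simp only [val_append, mul_assoc]

theorem sameCoset_sound {i j : ℕ} {u v : List ℕ} {l : List (ℕ × Bool)} (hi : i < C.nds.length)
    (h : sameCoset C.nds i u j v l = true) :
    ∃ hj : j < C.nds.length, C.pt ⟨i, hi⟩ (val u) = C.pt ⟨j, hj⟩ (val v) := by
  simp only [sameCoset, Bool.and_eq_true, Nat.beq_eq] at h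
  obtain ⟨⟨rfl, hv⟩, he⟩ := h
  refine ⟨hi, (C.pt_eq_iff _ _ _).2 ?_⟩
  obtain ⟨-, hmem⟩ := genWord_spec (gens_ok (C.ok _ hi)) l
  rwa [val_eq_of_wordEq he, val_append, val_invWord _ hv] at hmem

theorem comp_of_checks {cs : ℕ → ℕ → List (List (StepCert × List (ℕ × Bool)))}
    (h : ∀ i < C.nds.length, ∀ m < (nodeAt C.nds i).classes.length,
      checkComps C.B C.nds i m (cs i m) = true) :
    ∀ (i : Fin C.nds.length) (m : ℕ) (hm : m < (nodeAt C.nds i.1).classes.length),
    ∀ e < 5, ∀ f < 5, C.tmap f (C.tpt i m hm e) = C.tpt i m hm (e + f) := by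
  intro i m hm e he f hf
  have hc := h i.1 i.2 m hm
  simp only [checkComps, List.all_eq_true, List.mem_range, checkComp] at hc
  have hc := hc e he f hf
  generalize hs : stepTo C.B C.nds _ _ f _ = r at hc
  cases r with
  | none => simp at hc
  | some p =>
    obtain ⟨hi', hj, -, hstep⟩ := stepTo_sound hs
    obtain ⟨hj', hsame⟩ := sameCoset_sound hj hc
    simp only [tpt, NClass.tg, Nat.mod_eq_of_lt he]
    exact hstep.trans hsame

theorem rel_of_checks {D : CentData} (hD : D.check = true)
    {cs : ℕ → ℕ → List ((StepCert × StepCert × StepCert) × List (ℕ × Bool))}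
    (h : ∀ i < C.nds.length, ∀ m < (nodeAt C.nds i).classes.length,
      checkRels C.B C.nds D i m (cs i m) = true) (x : C.Pts) :
    C.right (val [4]) (C.tmap 4 (C.right (val [4]) (C.tmap 4 (C.right (val [4]) (C.tmap 4 x))))) = x := by
  obtain ⟨⟨i, m, hm, k, hk, rfl⟩⟩ := C.split_exists x
  obtain ⟨r, hr, l, he⟩ := CentData.exists_rep hD k (kWord_iff.1 hk)
  obtain ⟨hdk, hd1, hdz⟩ := CentData.genWord_facts hD l C.B C.hB
  have hcomm : ∀ y, C.right (val [4]) (C.tmap 4 (C.right (val (genWord D.gens l)) y)) =
      C.right (val (genWord D.gens l)) (C.right (val [4]) (C.tmap 4 y)) := by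
    intro y
    rw [C.tmap_right hdk (a := 4) (e := 4) (by rw [hd1]), right_right, right_right, hdz]
  rw [he, ← mul_assoc, ← right_pt, hcomm, hcomm, hcomm]
  congr 1
  rw [← val_append]
  have hc := h i.1 i.2 m hm
  simp only [checkRels, List.all_eq_true, List.mem_range] at hc
  have hc := hc r hr
  generalize cs i.1 m = c at hc
  simp only [checkRel] at hc
  generalize h1 : stepTo C.B C.nds i.1 _ 4 _ = r1 at hc
  cases r1 with
  | none => simp at hc
  | some p =>
    simp only at hc
    generalize h2 : stepTo C.B C.nds p.1 _ 4 _ = r2 at hc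
    cases r2 with
    | none => simp at hc
    | some q =>
      simp only at hc
      generalize h3 : stepTo C.B C.nds q.1 _ 4 _ = r3 at hc
      cases r3 with
      | none => simp at hc
      | some s =>
        simp only at hc
        obtain ⟨_, hp, -, e1⟩ := stepTo_sound h1
        obtain ⟨_, hq, -, e2⟩ := stepTo_sound h2
        obtain ⟨_, hs', -, e3⟩ := stepTo_sound h3
        obtain ⟨_, e4⟩ := sameCoset_sound hs' hc
        rw [e1, right_pt, ← val_append, e2, right_pt, ← val_append, e3, right_pt, ← val_append]
        exact e4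

end Cert

end Cfsg.Agent.Lib.CosetEnum.HNP
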