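import Cfsg.Agent.Lib.CosetEnum.Word
import Cfsg.Agent.Lib.ExactCover.Std

/-! The group presented on `x, y, z` by the ten relators of the presented Harada-Norton group
that involve only these generators. -/

set_option autoImplicit false
set_option maxRecDepth 20000
set_option Elab.async false

namespace Cfsg.Agent.Lib.CosetEnum.HNP

open Cfsg.Agent.Lib.CosetEnum Cfsg.Agent.Lib.ExactCover

/-- The relator words. -/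
def relWords : List (List ℕ) := [[2, 2, 2, 2, 2, 2],
    [0, 0, 2, 0, 0, 3],
    [1, 3, 0, 2, 1, 3, 0, 2, 1, 3, 0, 2],
    [1, 2, 2, 0, 2, 2, 2, 1, 2, 2, 0, 2, 2, 2, 1, 2, 2, 0, 2, 2, 2],
    [0, 2, 0, 2, 0, 2, 0, 2, 0, 2, 0, 2, 0, 2, 0, 2],
    [0, 2, 0, 2, 2, 2, 0, 2, 0, 2, 2, 2, 0, 2, 0, 2, 2, 2, 0, 2, 0, 2, 2, 2],
    [4, 4],
    [4, 0, 4, 0],
    [5, 2, 1, 3, 3, 1, 3, 1, 3, 4, 2, 0, 2, 0, 2, 2, 0, 3, 1, 1],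
    [4, 3, 1, 3, 1, 3, 3, 3, 4, 2, 2, 2, 0, 2, 0, 2, 0, 3, 1, 3, 1, 3, 3, 3, 4, 2, 2, 2, 0, 2, 0, 2, 0, 3, 1, 3, 1, 3, 3, 3, 4, 2, 2, 2, 0, 2, 0, 2, 0]]

/-- Letters and relator words. -/
noncomputable def letters : Letters (Fin 3) :=
  stdLetters 3 0x188510c01
    [[],
    [2, 2, 2, 2, 2, 2],
    [0, 0, 2, 0, 0, 3],
    [1, 3, 0, 2, 1, 3, 0, 2, 1, 3, 0, 2],
    [1, 2, 2, 0, 2, 2, 2, 1, 2, 2, 0, 2, 2, 2, 1, 2, 2, 0, 2, 2, 2],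
    [0, 2, 0, 2, 0, 2, 0, 2, 0, 2, 0, 2, 0, 2, 0, 2],
    [0, 2, 0, 2, 2, 2, 0, 2, 0, 2, 2, 2, 0, 2, 0, 2, 2, 2, 0, 2, 0, 2, 2, 2],
    [4, 4],
    [4, 0, 4, 0],
    [5, 2, 1, 3, 3, 1, 3, 1, 3, 4, 2, 0, 2, 0, 2, 2, 0, 3, 1, 1],
    [4, 3, 1, 3, 1, 3, 3, 3, 4, 2, 2, 2, 0, 2, 0, 2, 0, 3, 1, 3, 1, 3, 3, 3, 4, 2, 2, 2, 0, 2, 0, 2, 0, 3, 1, 3, 1, 3, 3, 3, 4, 2, 2, 2, 0, 2, 0, 2, 0],
    [0, 1],
    [1, 0],
    [2, 3],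
    [3, 2],
    [4, 5],
    [5, 4]] relWords

/-- The relators. -/
abbrev pres : Set (FreeGroup (Fin 3)) := relSet 3 relWords

theorem rels_mem : ∀ r ∈ letters.rels, r ∈ pres := fun _ h => h

theorem letters_col : ∀ a, letters.col a < letters.K ∧ letters.sym (letters.col a) = (a, true) := by
  decide +kernel

theorem letters_ok : letters.OK := by
  refine ⟨by decide +kernel, by decide +kernel, ?_, ?_, ?_⟩ <;> decide +kernel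

end Cfsg.Agent.Lib.CosetEnum.HNP
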