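import Cfsg.Agent.Lib.CosetEnum.HNP.Classes

/-!
Exact orders of subgroups of `P`: a subgroup `H` given as the closed list of the base images of its
elements, fixing a point, and one word for each point of the orbit of that point.
-/

set_option autoImplicit false

namespace Cfsg.Agent.Lib.CosetEnum.HNP

open Cfsg.Agent.Lib.CosetEnum Cfsg.Agent.Lib.ExactCover

/-- The base points. -/
def basePt (c : ℕ) : ℕ := [0, 3, 7, 8, 16].getD c 0

/-- A certificate for the order `m * n` of a subgroup. -/
structure OrbCert where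
  /-- Generators of `H`. -/
  hg : List (List ℕ)
  /-- The generators as products of the given ones. -/
  hin : List (List (ℕ × Bool))
  /-- The permutations of the generators. -/
  tab : PTree
  /-- The order of `H`. -/
  n : ℕ
  /-- Base images of the elements. -/
  pts : PTree
  /-- Products with the generators. -/
  nxt : PTree
  /-- An earlier element and a generator giving each element. -/
  par : PTree
  /-- The elements sorted. -/
  srt : PTree
  /-- The fixed point. -/
  b : ℕ
  /-- Coset representatives. -/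
  reps : List (List ℕ)
  /-- The number of each point of the orbit. -/
  pos : PTree
  /-- Products of representatives and generators: representative and element of `H`. -/
  sch : List (List (ℕ × ℕ))
  /-- An earlier representative and a generator giving each representative. -/
  rpar : List (ℕ × ℕ)

namespace OrbCert

variable (C : OrbCert)

/-- Coordinate `c` of element `j`. -/
noncomputable def P (j c : ℕ) : ℕ := get32 C.pts (Nat.add (Nat.mul j 5) c)

/-- The image of a point under generator `g`. -/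
noncomputable def T (x g : ℕ) : ℕ := get32 C.tab (Nat.add (Nat.mul x C.hg.length) g)

/-- A number determined by the base images. -/
noncomputable def key (j : ℕ) : ℕ :=
  Nat.add (Nat.mul (Nat.add (Nat.mul (Nat.add (Nat.mul (Nat.add (Nat.mul
    (C.P j 0) 2048) (C.P j 1)) 2048) (C.P j 2)) 2048) (C.P j 3)) 2048) (C.P j 4)

/-- The tables of the generators. -/
noncomputable def tabOK : Bool :=
  C.hg.all okWord && Nat.blt C.b 1408 &&
  allBelow C.hg.length (fun g => Nat.beq (C.T C.b g) C.b) &&
  allBelow 1408 fun x => allBelow C.hg.length fun g =>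
    Nat.beq (scan 6 table (C.hg.getD g []) x) (C.T x g)

/-- The list of elements is closed. -/
noncomputable def listOK : Bool :=
  Nat.blt 0 C.n && allBelow 5 (fun c => Nat.beq (C.P 0 c) (basePt c)) &&
  allBelow C.n fun j => allBelow C.hg.length fun g =>
    force (get32 C.nxt (Nat.add (Nat.mul j C.hg.length) g)) fun j' =>
      Nat.blt j' C.n && allBelow 5 fun c =>
        force (C.P j c) fun x => Nat.blt x 1408 && Nat.beq (C.T x g) (C.P j' c)

/-- The elements are reached and distinct. -/
noncomputable def treeOK : Bool :=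
  allBelow C.n (fun j => Nat.beq j 0 ||
    force (get32 C.par (Nat.mul j 2)) fun j0 => force (get32 C.par (Nat.add (Nat.mul j 2) 1)) fun g =>
      Nat.blt j0 j && Nat.blt g C.hg.length &&
        Nat.beq (get32 C.nxt (Nat.add (Nat.mul j0 C.hg.length) g)) j) &&
  allBelow C.n (fun i => Nat.blt (get32 C.srt i) C.n) &&
  allBelow (Nat.sub C.n 1) fun i =>
    Nat.blt (C.key (get32 C.srt i)) (C.key (get32 C.srt (Nat.succ i)))

/-- The orbit. -/
noncomputable def orbOK (gens : List (List ℕ)) : Bool :=
  Nat.blt 0 C.reps.length && decide (C.reps.getD 0 [] = []) && C.reps.all okWord && gens.all okWord &&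
  allBelow C.hg.length (fun g => wordEq (C.hg.getD g []) (genWord gens (C.hin.getD g []))) &&
  allBelow C.reps.length (fun x =>
    Nat.beq (get32 C.pos (scan 6 table (C.reps.getD x []) C.b)) x &&
    (Nat.beq x 0 ||
      let q := C.rpar.getD x (0, 0)
      Nat.blt q.1 x && Nat.blt q.2 gens.length &&
        Nat.beq ((C.sch.getD q.1 []).getD q.2 (0, 0)).1 x)) &&
  allBelow C.reps.length fun x => allBelow gens.length fun g =>
    let q := (C.sch.getD x []).getD g (0, 0)
    let w := C.reps.getD x [] ++ gens.getD g [] ++ invWord (C.reps.getD q.1 [])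
    Nat.blt q.1 C.reps.length && Nat.blt q.2 C.n &&
      allBelow 5 fun c => Nat.beq (scan 6 table w (basePt c)) (C.P q.2 c)

end OrbCert

/-- The inverse image of a point, as a number. -/
noncomputable def imgPt (q : PresentedGroup pres) (x : ℕ) : ℕ :=
  if h : x < 1408 then ((act q)⁻¹ ⟨x, h⟩).1 else 0

theorem imgPt_lt (q : PresentedGroup pres) (x : ℕ) : imgPt q x < 1408 := by
  unfold imgPt
  split
  · exact Fin.isLt _
  · omega

theorem imgPt_word (w : List ℕ) (hw : okWord w = true) {x : ℕ} (hx : x < 1408) :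
    imgPt (val w) x = scan 6 table w x := by
  rw [imgPt, dif_pos hx]
  exact act_word w (okWord_iff.1 hw) ⟨x, hx⟩

theorem imgPt_mul (p q : PresentedGroup pres) {x : ℕ} (hx : x < 1408) :
    imgPt (p * q) x = imgPt q (imgPt p x) := by
  rw [imgPt, dif_pos hx, imgPt, dif_pos (imgPt_lt p x)]
  simp only [imgPt, dif_pos hx, map_mul, mul_inv_rev, Equiv.Perm.mul_apply, Fin.eta]

theorem imgPt_one {x : ℕ} (hx : x < 1408) : imgPt 1 x = x := by
  simp [imgPt, dif_pos hx]

theorem basePt_lt (c : ℕ) : basePt c < 1408 := by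
  rcases lt_or_ge c 5 with h | h
  · interval_cases c <;> simp [basePt]
  · rw [basePt, List.getD_eq_default _ _ (show ([0, 3, 7, 8, 16] : List ℕ).length ≤ c by simpa using h)]
    omega

theorem exists_word (q : PresentedGroup pres) : ∃ u, okWord u = true ∧ val u = q := by
  haveI := finite
  have hq : q ∈ Subgroup.closure (Set.range (PresentedGroup.of : Fin 3 → PresentedGroup pres)) := by
    rw [PresentedGroup.closure_range_of]; trivial
  refine closure_induction_mul (p := fun q => ∃ u, okWord u = true ∧ val u = q) ?_ ?_ ?_ hq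
  · rintro _ ⟨i, rfl⟩
    refine ⟨[2 * i.val], by fin_cases i <;> decide, ?_⟩
    rw [← Letters.phi_col (L := letters) (S := pres) letters_col]
    simp [val]
    rfl
  · exact ⟨[], rfl, val_nil⟩
  · rintro a b ⟨u, hu, rfl⟩ ⟨v, hv, rfl⟩
    exact ⟨u ++ v, okWord_append hu hv, val_append u v⟩

theorem eq_of_imgPt {p q : PresentedGroup pres}
    (h : ∀ c < 5, imgPt p (basePt c) = imgPt q (basePt c)) : p = q := by
  obtain ⟨u, hu, rfl⟩ := exists_word p
  obtain ⟨v, hv, rfl⟩ := exists_word q
  refine val_eq_of_base u v (okWord_iff.1 hu) (okWord_iff.1 hv) fun b hb => ?_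
  obtain ⟨c, hc, rfl⟩ : ∃ c < 5, basePt c = b := by
    simp only [List.mem_cons, List.not_mem_nil, or_false] at hb
    rcases hb with rfl | rfl | rfl | rfl | rfl
    exacts [⟨0, by omega, rfl⟩, ⟨1, by omega, rfl⟩, ⟨2, by omega, rfl⟩, ⟨3, by omega, rfl⟩,
      ⟨4, by omega, rfl⟩]
  rw [← imgPt_word u hu (basePt_lt c), ← imgPt_word v hv (basePt_lt c)]
  exact h c hc

namespace OrbCert

variable {C : OrbCert}

theorem tab_facts (h : C.tabOK = true) :
    (∀ s ∈ C.hg, okWord s = true) ∧ C.b < 1408 ∧
    (∀ g < C.hg.length, ∀ x < 1408, imgPt (val (C.hg.getD g [])) x = C.T x g) ∧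
    (∀ g < C.hg.length, C.T C.b g = C.b) := by
  simp only [tabOK, Bool.and_eq_true, List.all_eq_true, allBelow_iff, Nat.blt_eq, Nat.beq_eq] at h
  obtain ⟨⟨⟨h1, h2⟩, h3⟩, h4⟩ := h
  refine ⟨h1, h2, fun g hg x hx => ?_, h3⟩
  rw [imgPt_word _ (h1 _ (List.getD_eq_getElem C.hg [] hg ▸ List.getElem_mem hg)) hx]
  exact h4 x hx g hg

theorem fix_b (h : C.tabOK = true) {q : PresentedGroup pres} (hq : q ∈ genGroup C.hg) :
    imgPt q C.b = C.b := by
  haveI := finite
  obtain ⟨-, hb, hT, hf⟩ := tab_facts h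
  refine closure_induction_mul (p := fun q => imgPt q C.b = C.b) ?_ ?_ ?_ hq
  · rintro _ ⟨s, hs, rfl⟩
    obtain ⟨g, hg, rfl⟩ := List.mem_iff_getElem.1 hs
    rw [← List.getD_eq_getElem C.hg [] hg, hT g hg C.b hb, hf g hg]
  · exact imgPt_one hb
  · intro a c ha hc
    rw [imgPt_mul _ _ hb, ha, hc]

theorem P_lt (h : C.tabOK = true) (hl : C.listOK = true) (hK : 0 < C.hg.length) {j : ℕ} (hj : j < C.n)
    {c : ℕ} (hc : c < 5) : C.P j c < 1408 := by
  simp only [listOK, Bool.and_eq_true, allBelow_iff, force_eq, Nat.blt_eq] at hl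
  exact ((hl.2 j hj 0 hK).2 c hc).1

theorem list_step (h : C.tabOK = true) (hl : C.listOK = true) {j : ℕ} (hj : j < C.n) {g : ℕ}
    (hg : g < C.hg.length) :
    get32 C.nxt (j * C.hg.length + g) < C.n ∧ ∀ c < 5,
      imgPt (val (C.hg.getD g [])) (C.P j c) = C.P (get32 C.nxt (j * C.hg.length + g)) c := by
  simp only [listOK, Bool.and_eq_true, allBelow_iff, force_eq, Nat.blt_eq, Nat.beq_eq] at hl
  obtain ⟨h1, h2⟩ := hl.2 j hj g hg
  refine ⟨h1, fun c hc => ?_⟩
  obtain ⟨hx, he⟩ := h2 c hc
  rw [(tab_facts h).2.2.1 g hg _ hx]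
  exact he

theorem list_base (hl : C.listOK = true) : 0 < C.n ∧ ∀ c < 5, C.P 0 c = basePt c := by
  simp only [listOK, Bool.and_eq_true, allBelow_iff, Nat.blt_eq, Nat.beq_eq] at hl
  exact ⟨hl.1.1, hl.1.2⟩

theorem exists_index (h : C.tabOK = true) (hl : C.listOK = true) (hK : 0 < C.hg.length)
    {q : PresentedGroup pres} (hq : q ∈ genGroup C.hg) :
    ∃ j < C.n, ∀ c < 5, imgPt q (basePt c) = C.P j c := by
  haveI := finite
  suffices ∀ j < C.n, ∃ j' < C.n, ∀ c < 5, imgPt q (C.P j c) = C.P j' c by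
    obtain ⟨h0, hb⟩ := list_base hl
    obtain ⟨j', hj', he⟩ := this 0 h0
    exact ⟨j', hj', fun c hc => by rw [← hb c hc]; exact he c hc⟩
  refine closure_induction_mul (p := fun q => ∀ j < C.n, ∃ j' < C.n, ∀ c < 5,
    imgPt q (C.P j c) = C.P j' c) ?_ ?_ ?_ hq
  · rintro _ ⟨s, hs, rfl⟩ j hj
    obtain ⟨g, hg, rfl⟩ := List.mem_iff_getElem.1 hs
    rw [← List.getD_eq_getElem C.hg [] hg]
    exact ⟨_, list_step h hl hj hg⟩
  · intro j hj
    exact ⟨j, hj, fun c hc => imgPt_one (P_lt h hl hK hj hc)⟩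
  · intro a b ha hb j hj
    obtain ⟨j', hj', he⟩ := ha j hj
    obtain ⟨j'', hj'', he'⟩ := hb j' hj'
    exact ⟨j'', hj'', fun c hc => by
      rw [imgPt_mul _ _ (P_lt h hl hK hj hc), he c hc, he' c hc]⟩

theorem exists_elem (h : C.tabOK = true) (hl : C.listOK = true) (ht : C.treeOK = true) :
    ∀ j < C.n, ∃ q ∈ genGroup C.hg, ∀ c < 5, imgPt q (basePt c) = C.P j c := by
  intro j
  induction j using Nat.strong_induction_on with
  | _ j ih =>
    intro hj
    rcases Nat.eq_zero_or_pos j with rfl | hpos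
    · exact ⟨1, one_mem _, fun c hc => by rw [imgPt_one (basePt_lt c), (list_base hl).2 c hc]⟩
    simp only [treeOK, Bool.and_eq_true, allBelow_iff, Bool.or_eq_true, force_eq, Nat.blt_eq,
      Nat.beq_eq] at ht
    rcases ht.1.1 j hj with h0 | ⟨⟨h1, h2⟩, h3⟩
    · omega
    obtain ⟨q, hq, he⟩ := ih _ h1 (by omega)
    refine ⟨q * val (C.hg.getD (get32 C.par (Nat.add (Nat.mul j 2) 1)) []), mul_mem hq ?_, fun c hc => ?_⟩
    · exact Subgroup.subset_closure
        ⟨_, List.getD_eq_getElem C.hg [] h2 ▸ List.getElem_mem h2, rfl⟩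
    · rw [imgPt_mul _ _ (basePt_lt c), he c hc, (list_step h hl (by omega) h2).2 c hc]
      exact congrArg (C.P · c) h3

theorem key_inj (ht : C.treeOK = true) {j j' : ℕ} (hj : j < C.n) (hj' : j' < C.n)
    (he : C.key j = C.key j') : j = j' := by
  simp only [treeOK, Bool.and_eq_true, allBelow_iff, Nat.blt_eq] at ht
  obtain ⟨⟨-, hs⟩, hm⟩ := ht
  have hmono : ∀ d i, i + d + 1 < C.n →
      C.key (get32 C.srt i) < C.key (get32 C.srt (i + d + 1)) := by
    intro d
    induction d with
    | zero => intro i hi; exact hm i (show i < C.n - 1 by omega)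
    | succ d ih =>
      intro i hi
      exact (ih i (by omega)).trans (hm (i + d + 1) (show i + d + 1 < C.n - 1 by omega))
  let f : Fin C.n → Fin C.n := fun i => ⟨get32 C.srt i.1, hs i.1 i.2⟩
  have hinj : ∀ i i' : Fin C.n, C.key (f i).1 = C.key (f i').1 → i = i' := by
    intro i i' hii
    rcases lt_trichotomy i.1 i'.1 with hlt | heq | hlt
    · have h2 := hmono (i'.1 - i.1 - 1) i.1 (by omega)
      rw [show i.1 + (i'.1 - i.1 - 1) + 1 = i'.1 by omega] at h2
      exact absurd hii h2.ne
    · exact Fin.ext heq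
    · have h2 := hmono (i.1 - i'.1 - 1) i'.1 (by omega)
      rw [show i'.1 + (i.1 - i'.1 - 1) + 1 = i.1 by omega] at h2
      exact absurd hii h2.ne'
  have hsur : Function.Surjective f :=
    Finite.surjective_of_injective fun i i' hf => hinj i i' (by rw [hf])
  obtain ⟨i, hi⟩ := hsur ⟨j, hj⟩
  obtain ⟨i', hi'⟩ := hsur ⟨j', hj'⟩
  have := hinj i i' (by rw [hi, hi']; exact he)
  subst this
  rw [hi] at hi'
  exact congrArg Fin.val hi'

/-- The order of `H`. -/
theorem card_H (h : C.tabOK = true) (hl : C.listOK = true) (ht : C.treeOK = true)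
    (hK : 0 < C.hg.length) : Nat.card (genGroup C.hg) = C.n := by
  choose f hf he using fun (q : genGroup C.hg) => exists_index h hl hK q.2
  have hbij : Function.Bijective fun q => (⟨f q, hf q⟩ : Fin C.n) := by
    constructor
    · intro p q hpq
      have hpq' : f p = f q := congrArg Fin.val hpq
      exact Subtype.ext (eq_of_imgPt fun c hc => by rw [he p c hc, he q c hc, hpq'])
    · intro j
      obtain ⟨q, hq, hj⟩ := exists_elem h hl ht j.1 j.2
      refine ⟨⟨q, hq⟩, Fin.ext (key_inj ht (hf _) j.2 ?_)⟩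
      have hc : ∀ c < 5, C.P (f ⟨q, hq⟩) c = C.P j.1 c := fun c hc =>
        (he ⟨q, hq⟩ c hc).symm.trans (hj c hc)
      simp only [key, hc 0 (by omega), hc 1 (by omega), hc 2 (by omega), hc 3 (by omega),
        hc 4 (by omega)]
  rw [Nat.card_eq_of_bijective _ hbij, Nat.card_fin]

/-- The order of the subgroup generated by the given words. -/
theorem card_gens (h : C.tabOK = true) (hl : C.listOK = true) (ht : C.treeOK = true)
    (hK : 0 < C.hg.length) {gens : List (List ℕ)} (ho : C.orbOK gens = true) :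
    Nat.card (genGroup gens) = C.reps.length * C.n := by
  haveI := finite
  simp only [orbOK, Bool.and_eq_true, List.all_eq_true, allBelow_iff, Bool.or_eq_true, Nat.blt_eq,
    Nat.beq_eq, decide_eq_true_eq] at ho
  obtain ⟨⟨⟨⟨⟨⟨hm, hr0⟩, hrok⟩, hgok⟩, hin⟩, hrep⟩, hsch⟩ := ho
  set r : ℕ → PresentedGroup pres := fun x => val (C.reps.getD x []) with hr
  have hrok' : ∀ x < C.reps.length, okWord (C.reps.getD x []) = true := fun x hx =>
    hrok _ (List.getD_eq_getElem C.reps [] hx ▸ List.getElem_mem hx)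
  have hHle : genGroup C.hg ≤ genGroup gens := by
    refine (Subgroup.closure_le _).2 ?_
    rintro _ ⟨s, hs, rfl⟩
    obtain ⟨g, hg, rfl⟩ := List.mem_iff_getElem.1 hs
    rw [← List.getD_eq_getElem C.hg [] hg, val_eq_of_wordEq (hin g hg)]
    exact (genWord_spec hgok _).2
  have hgm : ∀ g < gens.length, val (gens.getD g []) ∈ genGroup gens := fun g hg =>
    Subgroup.subset_closure ⟨_, List.getD_eq_getElem gens [] hg ▸ List.getElem_mem hg, rfl⟩
  -- one step of the orbit
  have hstep : ∀ x < C.reps.length, ∀ g < gens.length,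
      ((C.sch.getD x []).getD g (0, 0)).1 < C.reps.length ∧ ∃ k ∈ genGroup C.hg,
        r x * val (gens.getD g []) = k * r ((C.sch.getD x []).getD g (0, 0)).1 := by
    intro x hx g hg
    obtain ⟨⟨h1, h2⟩, h3⟩ := hsch x hx g hg
    obtain ⟨k, hk, hke⟩ := exists_elem h hl ht _ h2
    refine ⟨h1, k, hk, mul_inv_eq_iff_eq_mul.1 ?_⟩
    have hg' : okWord (gens.getD g []) = true :=
      hgok _ (List.getD_eq_getElem gens [] hg ▸ List.getElem_mem hg)
    have hw := okWord_append (okWord_append (hrok' x hx) hg') (okWord_invWord (hrok' _ h1))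
    refine eq_of_imgPt fun c hc => ?_
    rw [hr, ← val_invWord _ (hrok' _ h1), ← val_append, ← val_append, imgPt_word _ hw (basePt_lt c),
      h3 c hc, hke c hc]
  have hr_mem : ∀ x < C.reps.length, r x ∈ genGroup gens := by
    intro x
    induction x using Nat.strong_induction_on with
    | _ x ih =>
      intro hx
      rcases (hrep x hx).2 with h0 | ⟨⟨h1, h2⟩, h3⟩
      · subst h0
        simp only [hr, hr0, val_nil]
        exact one_mem _
      · obtain ⟨-, k, hk, he⟩ := hstep _ (h1.trans hx) _ h2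
        rw [h3] at he
        rw [show r x = k⁻¹ * (r _ * val _) by rw [he, inv_mul_cancel_left]]
        exact mul_mem (inv_mem (hHle hk)) (mul_mem (ih _ h1 (h1.trans hx)) (hgm _ h2))
  let F : Fin C.reps.length × genGroup C.hg → genGroup gens := fun p =>
    ⟨p.2.1 * r p.1.1, mul_mem (hHle p.2.2) (hr_mem _ p.1.2)⟩
  have hF : Function.Bijective F := by
    constructor
    · rintro ⟨x, k⟩ ⟨y, l⟩ he
      have he' : k.1 * r x.1 = l.1 * r y.1 := congrArg Subtype.val he
      have hb := (tab_facts h).2.1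
      have hxy : x = y := by
        have := congrArg (imgPt · C.b) he'
        simp only [imgPt_mul _ _ hb, fix_b h k.2, fix_b h l.2, hr,
          imgPt_word _ (hrok' _ x.2) hb, imgPt_word _ (hrok' _ y.2) hb] at this
        apply Fin.ext
        rw [← (hrep x.1 x.2).1, this]
        exact (hrep y.1 y.2).1
      subst hxy
      exact congrArg _ (Subtype.ext (mul_right_cancel he'))
    · rintro ⟨q, hq⟩
      suffices ∀ x < C.reps.length, ∀ k ∈ genGroup C.hg,
          ∃ y < C.reps.length, ∃ l ∈ genGroup C.hg, k * r x * q = l * r y by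
        obtain ⟨y, hy, l, hl', he⟩ := this 0 hm 1 (one_mem _)
        refine ⟨(⟨y, hy⟩, ⟨l, hl'⟩), Subtype.ext ?_⟩
        change l * r y = q
        have hr1 : r 0 = 1 := by simp only [hr, hr0, val_nil]
        rw [← he, hr1, one_mul, one_mul]
      refine closure_induction_mul (p := fun q => ∀ x < C.reps.length, ∀ k ∈ genGroup C.hg,
        ∃ y < C.reps.length, ∃ l ∈ genGroup C.hg, k * r x * q = l * r y) ?_ ?_ ?_ hq
      · rintro _ ⟨s, hs, rfl⟩ x hx k hk
        obtain ⟨g, hg, rfl⟩ := List.mem_iff_getElem.1 hs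
        rw [← List.getD_eq_getElem gens [] hg]
        obtain ⟨hy, k0, hk0, he⟩ := hstep x hx g hg
        exact ⟨_, hy, k * k0, mul_mem hk hk0, by rw [mul_assoc, he, mul_assoc]⟩
      · intro x hx k hk
        exact ⟨x, hx, k, hk, mul_one _⟩
      · intro a b ha hb x hx k hk
        obtain ⟨y, hy, l, hl', he⟩ := ha x hx k hk
        obtain ⟨z, hz, m, hm', he'⟩ := hb y hy l hl'
        exact ⟨z, hz, m, hm', by rw [← mul_assoc, he, he']⟩
  rw [← Nat.card_eq_of_bijective _ hF, Nat.card_prod, Nat.card_fin, card_H h hl ht hK]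

end OrbCert

end Cfsg.Agent.Lib.CosetEnum.HNP
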