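import Cfsg.Agent.Lib.CosetEnum.HNP.Data
import Cfsg.Agent.Lib.CosetEnum.HNPSlp

/-! The action on 1408 points is a homomorphism. -/

set_option autoImplicit false
set_option maxRecDepth 20000
set_option Elab.async false

namespace Cfsg.Agent.Lib.CosetEnum.HNP

open Cfsg.Agent.Lib.CosetEnum

theorem perm_part0 : allFrom 0 1408 (permAt letters.K letters.IV 1408 table) = true := by decide +kernel

theorem perm_ok : permOK letters.K letters.IV 1408 table = true :=
  (allBelow_add (rfl : allBelow 0 (permAt letters.K letters.IV 1408 table) = true) perm_part0
    (by omega : 0 + 1408 = 1408))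

theorem rels_part0 : allFrom 0 704 (relAt letters.K table letters.RL) = true := by decide +kernel

theorem rels_part1 : allFrom 704 704 (relAt letters.K table letters.RL) = true := by decide +kernel

theorem rels_ok : relsOK letters.K 1408 table letters.RL = true :=
  (allBelow_add (allBelow_add (rfl : allBelow 0 (relAt letters.K table letters.RL) = true) rels_part0
    (by omega : 0 + 704 = 704)) rels_part1
    (by omega : 704 + 704 = 1408))

theorem table_ok : TableOK letters 1408 table where
  col := letters_col
  symcol := by decide +kernel
  invol := by decide +kernel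
  perm := perm_ok
  rel l hl i hi := relsOK_rel rels_ok hi hl

/-- The action on 1408 points. -/
noncomputable def act : PresentedGroup pres →* Equiv.Perm (Fin 1408) :=
  PresentedGroup.toGroup (f := table_ok.genPerm) fun _ hr => table_ok.lift_rel letters_ok hr

theorem act_phi (g : ℕ) (hg : g < letters.K) (i : Fin 1408) :
    ((act (letters.phi pres g))⁻¹ i).1 = get32 table (i.1 * letters.K + g) := by
  rw [Letters.phi_of_lt hg]
  have h : act (PresentedGroup.mk pres (FreeGroup.mk [letters.sym g])) =
      FreeGroup.lift table_ok.genPerm (FreeGroup.mk [letters.sym g]) := rfl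
  rw [h, table_ok.lift_sym hg]
  rfl

theorem act_card_ge : 177408000 ≤ Nat.card act.range :=
  HNPSlp.card_ge act _ act_phi

end Cfsg.Agent.Lib.CosetEnum.HNP
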